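import Cfsg.Agent.OneClass35.Defs
import Cfsg.Agent.S3430
import Cfsg.Agent.S2638
import Cfsg.Agent.S4485
import Cfsg.Agent.S4503
import Cfsg.Agent.S4504
import Cfsg.Agent.Lib.LinearGroup.Card
import Mathlib.LinearAlgebra.Matrix.Charpoly.Eigs
import Mathlib.FieldTheory.IsAlgClosed.AlgebraicClosure

/-!
# Transitive linear groups of dimension at least three have at least `p` classes

A primitive prime `r` of `p ^ n - 1` divides the order; its elements have cyclic centralisers.
Either the subgroup of order `r` is normal, with at most `n` conjugates of a generator, or the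
degree bounds for groups with Sylow subgroups of order `r` leave only a large centre.
-/

set_option linter.unusedSectionVars false

namespace Cfsg.Agent.OneClass35.Big

open scoped Classical

universe u

variable {H : Type u} [Group H] [Finite H] {p n : ℕ} [Fact p.Prime]

theorem pow_sub_one_dvd_card {ρ : H →* GL (Fin n) (ZMod p)} (hρ : IsTransLin ρ) (hn : 0 < n) :
    p ^ n - 1 ∣ Nat.card H := by
  letI act : MulAction H {v : Fin n → ZMod p // v ≠ 0} :=
    { smul := fun h v => ⟨(ρ h : Matrix (Fin n) (Fin n) (ZMod p)).mulVec v.1, fun e => v.2 (by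
        have h2 := congrArg (Matrix.mulVec ((ρ h)⁻¹ : GL (Fin n) (ZMod p)).1) e
        rwa [Matrix.mulVec_mulVec, ← Units.val_mul, inv_mul_cancel, Units.val_one,
          Matrix.one_mulVec, Matrix.mulVec_zero] at h2)⟩
      one_smul := fun v => Subtype.ext (by
        show (ρ 1 : Matrix (Fin n) (Fin n) (ZMod p)).mulVec v.1 = v.1
        rw [map_one, Units.val_one, Matrix.one_mulVec])
      mul_smul := fun g h v => Subtype.ext (by
        show (ρ (g * h) : Matrix (Fin n) (Fin n) (ZMod p)).mulVec v.1 =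
          (ρ g : Matrix (Fin n) (Fin n) (ZMod p)).mulVec
            ((ρ h : Matrix (Fin n) (Fin n) (ZMod p)).mulVec v.1)
        rw [map_mul, Units.val_mul, Matrix.mulVec_mulVec]) }
  haveI : MulAction.IsPretransitive H {v : Fin n → ZMod p // v ≠ 0} := ⟨fun v w => by
    obtain ⟨h, hh⟩ := hρ.trans v.1 w.1 v.2 w.2
    exact ⟨h, Subtype.ext hh⟩⟩
  let v₀ : {v : Fin n → ZMod p // v ≠ 0} :=
    ⟨fun _ => 1, fun e => one_ne_zero (α := ZMod p) (congrFun e ⟨0, hn⟩)⟩
  have hindex := MulAction.index_stabilizer_of_transitive H v₀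
  have hcard : Nat.card {v : Fin n → ZMod p // v ≠ 0} = p ^ n - 1 := by
    rw [Nat.card_eq_fintype_card, Fintype.card_subtype_compl, Fintype.card_fun, ZMod.card,
      Fintype.card_fin, Fintype.card_subtype_eq]
  rw [hcard] at hindex
  rw [← hindex]
  exact Subgroup.index_dvd_card _

/-- The centraliser of an element of primitive prime order is cyclic. -/
theorem isCyclic_centralizer (ρ : H →* GL (Fin n) (ZMod p)) (hρ : Function.Injective ρ)
    (hn : 1 ≤ n) {r : ℕ} (hr : r.Prime) (hrp : r ≠ p) (hi : orderOf (p : ZMod r) = n) {x : H}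
    (hx : orderOf x = r) : IsCyclic (Subgroup.centralizer ({x} : Set H)) := by
  have hρx : orderOf (ρ x) = r := by rw [orderOf_injective ρ hρ, hx]
  obtain ⟨hcyc, -⟩ := S2638.result (F := ZMod p) (p := p) (q := p) (ZMod.card p) hn hr hrp hi
    (ρ x) hρx
  let f : Subgroup.centralizer ({x} : Set H) →*
      Subgroup.centralizer ({ρ x} : Set (GL (Fin n) (ZMod p))) :=
    (ρ.comp (Subgroup.centralizer ({x} : Set H)).subtype).codRestrict _ fun c => by
      rw [Subgroup.mem_centralizer_iff]
      intro y' hy'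
      rw [Set.mem_singleton_iff] at hy'
      subst y'
      have := Subgroup.mem_centralizer_iff.mp c.2 x rfl
      simp only [MonoidHom.comp_apply, Subgroup.coe_subtype, ← map_mul, this]
  exact isCyclic_of_injective f fun a b h => Subtype.ext (hρ (congrArg Subtype.val h))

/-- An element of prime order other than `p` has an eigenvalue of that order. -/
theorem exists_eigenvalue {K : Type*} [Field K] [IsAlgClosed K] [CharP K p] {r : ℕ}
    (hr : r.Prime) (hrp : r ≠ p) (A : Matrix (Fin n) (Fin n) K) (hA : A ^ r = 1) (hA1 : A ≠ 1) :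
    ∃ μ : K, A.charpoly.IsRoot μ ∧ orderOf μ = r := by
  have hroot : ∀ μ : K, A.charpoly.IsRoot μ → μ ^ r = 1 := by
    intro μ hμ
    haveI : Nonempty (Fin n) := by
      by_contra h
      exact hA1 (Matrix.ext fun i => (h ⟨i⟩).elim)
    have h2 : μ ∈ spectrum K A := (Matrix.mem_spectrum_iff_isRoot_charpoly).mpr hμ
    have h3 := spectrum.pow_mem_pow A r h2
    rw [hA, spectrum.one_eq] at h3
    exact h3
  by_contra hno
  push Not at hno
  have hall : ∀ μ : K, A.charpoly.IsRoot μ → μ = 1 := by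
    intro μ hμ
    by_contra hμ1
    refine hno μ hμ ?_
    haveI := Fact.mk hr
    exact orderOf_eq_prime (hroot μ hμ) hμ1
  have hsplit : A.charpoly.Splits := IsAlgClosed.splits _
  have hroots : A.charpoly.roots = Multiset.replicate n 1 := by
    refine Multiset.eq_replicate.mpr ⟨?_, fun μ hμ => hall μ ?_⟩
    · rw [← hsplit.natDegree_eq_card_roots, Matrix.charpoly_natDegree_eq_dim, Fintype.card_fin]
    · exact (Polynomial.mem_roots (Matrix.charpoly_monic A).ne_zero).mp hμ
  have hpoly : A.charpoly = (Polynomial.X - Polynomial.C 1) ^ n := by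
    rw [hsplit.eq_prod_roots_of_monic (Matrix.charpoly_monic A), hroots, Multiset.map_replicate,
      Multiset.prod_replicate]
  have h1 : (A - 1) ^ n = 0 := by
    have h := Matrix.aeval_self_charpoly A
    rw [hpoly] at h
    simpa using h
  have h2 : (A - 1) ^ p ^ n = 0 :=
    pow_eq_zero_of_le (Nat.lt_pow_self (Fact.out : p.Prime).one_lt).le h1
  haveI : Nonempty (Fin n) := by
    by_contra h
    exact hA1 (Matrix.ext fun i => (h ⟨i⟩).elim)
  haveI : CharP (Matrix (Fin n) (Fin n) K) p := inferInstance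
  rw [sub_pow_char_pow_of_commute (p := p) (n := n) (Commute.one_right A), one_pow, sub_eq_zero] at h2
  have hcop : Nat.gcd (p ^ n) r = 1 :=
    Nat.Coprime.pow_left n ((Nat.coprime_primes Fact.out hr).mpr hrp.symm)
  have h3 := pow_gcd_eq_one.mpr ⟨h2, hA⟩
  rw [hcop, pow_one] at h3
  exact hA1 h3

/-- A generator of a normal subgroup of primitive prime order has at most `n` conjugates. -/
theorem index_centralizer_le (ρ : H →* GL (Fin n) (ZMod p)) (hρ : Function.Injective ρ)
    {r : ℕ} (hr : r.Prime) (hrp : r ≠ p) {x : H} (hx : orderOf x = r)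
    (hnorm : (Subgroup.zpowers x).Normal) :
    (Subgroup.centralizer ({x} : Set H)).index ≤ n := by
  let K := AlgebraicClosure (ZMod p)
  haveI : CharP K p := charP_of_injective_algebraMap (algebraMap (ZMod p) K).injective p
  let ι : ZMod p →+* K := algebraMap (ZMod p) K
  let φ : H →* Matrix (Fin n) (Fin n) K :=
    (ι.mapMatrix.toMonoidHom.comp (Units.coeHom _)).comp ρ
  have hφ : Function.Injective φ := fun a b h =>
    hρ (Units.ext (Matrix.map_injective ι.injective h))
  have hA : φ x ^ r = 1 := by rw [← map_pow, ← hx, pow_orderOf_eq_one, map_one]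
  have hA1 : φ x ≠ 1 := fun e => by
    have h0 : x = 1 := hφ (by rw [e, map_one])
    rw [h0, orderOf_one] at hx
    exact hr.ne_one hx.symm
  obtain ⟨μ, hμ, hμr⟩ := exists_eigenvalue (p := p) hr hrp _ hA hA1
  have hex : ∀ g : H, ∃ i : Fin r, g * x * g⁻¹ = x ^ (i : ℕ) := by
    intro g
    have hm := hnorm.conj_mem x (Subgroup.mem_zpowers x) g
    rw [← (isOfFinOrder_of_finite x).mem_powers_iff_mem_zpowers, Submonoid.mem_powers_iff] at hm
    obtain ⟨i, hi⟩ := hm
    refine ⟨⟨i % r, Nat.mod_lt _ hr.pos⟩, ?_⟩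
    show g * x * g⁻¹ = x ^ (i % r)
    have e : x ^ (i % orderOf x) = x ^ i := pow_mod_orderOf x i
    rw [hx] at e
    rw [e, ← hi]
  choose i hi using hex
  have hroot : ∀ g : H, (φ x).charpoly.IsRoot (μ ^ (i g : ℕ)) := by
    intro g
    have hu : IsUnit (φ g) := (Group.isUnit g).map φ
    obtain ⟨u, hu⟩ := hu
    have hinv : φ g⁻¹ = (↑u⁻¹ : Matrix (Fin n) (Fin n) K) := by
      apply (Units.mul_right_inj u).mp
      rw [Units.mul_inv, hu, ← map_mul, mul_inv_cancel, map_one]
    have e : φ x ^ (i g : ℕ) = (u : Matrix (Fin n) (Fin n) K) * φ x * (↑u⁻¹ : Matrix _ _ K) := by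
      rw [← map_pow, ← hi g, map_mul, map_mul, hu, hinv]
    have h1 : (φ x ^ (i g : ℕ)).charpoly = (φ x).charpoly := by
      rw [e, Matrix.coe_units_inv, Matrix.charpoly_units_conj]
    haveI : Nonempty (Fin n) := by
      by_contra h
      exact hA1 (Matrix.ext fun a => (h ⟨a⟩).elim)
    rw [← h1]
    exact Matrix.mem_spectrum_iff_isRoot_charpoly.mp
      (spectrum.pow_mem_pow (φ x) _ (Matrix.mem_spectrum_iff_isRoot_charpoly.mpr hμ))
  let f : H ⧸ Subgroup.centralizer ({x} : Set H) → {z : K // z ∈ (φ x).charpoly.roots.toFinset} :=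
    fun q => ⟨μ ^ (i q.out : ℕ), Multiset.mem_toFinset.mpr
      ((Polynomial.mem_roots (Matrix.charpoly_monic _).ne_zero).mpr (hroot q.out))⟩
  have hf : Function.Injective f := by
    intro q q' h
    have h1 : μ ^ (i q.out : ℕ) = μ ^ (i q'.out : ℕ) := congrArg Subtype.val h
    have hfin : IsOfFinOrder μ := orderOf_pos_iff.mp (hμr ▸ hr.pos)
    have h2 : (i q.out : ℕ) = i q'.out :=
      pow_injOn_Iio_orderOf (by simp [hμr]) (by simp [hμr]) h1
    have h3 : q.out * x * q.out⁻¹ = q'.out * x * q'.out⁻¹ := by rw [hi, hi, h2]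
    rw [← QuotientGroup.out_eq' q, ← QuotientGroup.out_eq' q', QuotientGroup.eq,
      Subgroup.mem_centralizer_iff]
    intro y' hy'
    rw [Set.mem_singleton_iff] at hy'
    subst y'
    calc x * (q.out⁻¹ * q'.out) = q.out⁻¹ * (q.out * x * q.out⁻¹) * q'.out := by group
      _ = q.out⁻¹ * (q'.out * x * q'.out⁻¹) * q'.out := by rw [h3]
      _ = q.out⁻¹ * q'.out * x := by group
  refine (Nat.card_le_card_of_injective f hf).trans ?_
  rw [Nat.card_eq_finsetCard]
  refine (Multiset.toFinset_card_le _).trans ((Polynomial.card_roots' _).trans ?_)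
  rw [Matrix.charpoly_natDegree_eq_dim, Fintype.card_fin]

/-- An abelian subgroup meets at least `|A| / [H : A]` classes. -/
theorem card_le_index_mul_classes (A : Subgroup H) [hA : IsMulCommutative A] :
    Nat.card A ≤ A.index * Nat.card (ConjClasses H) := by
  have hrep : ∀ a : A, ∃ c : A, IsConj (c : H) (a : H) := fun a => ⟨a, IsConj.refl _⟩
  let rep : ConjClasses H → A := fun c =>
    if h : ∃ a : A, ConjClasses.mk (a : H) = c then h.choose else 1
  have hrep' : ∀ a : A, IsConj ((rep (ConjClasses.mk (a : H)) : A) : H) (a : H) := fun a => by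
    have h : ∃ b : A, ConjClasses.mk (b : H) = ConjClasses.mk (a : H) := ⟨a, rfl⟩
    simp only [rep, dif_pos h]
    exact ConjClasses.mk_eq_mk_iff_isConj.mp h.choose_spec
  choose g hg using fun a : A => isConj_iff.mp (hrep' a)
  let f : A → (H ⧸ A) × ConjClasses H := fun a => (QuotientGroup.mk (g a), ConjClasses.mk (a : H))
  have hf : Function.Injective f := by
    intro a b h
    obtain ⟨h1, h2⟩ := Prod.mk.inj h
    have hc := QuotientGroup.eq.mp h1
    apply Subtype.ext
    rw [← hg a, ← hg b, ← h2]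
    set c := rep (ConjClasses.mk (a : H))
    have hcomm : ((g a)⁻¹ * g b) * (c : H) = (c : H) * ((g a)⁻¹ * g b) :=
      congrArg Subtype.val (mul_comm' (⟨_, hc⟩ : A) c)
    calc g a * (c : H) * (g a)⁻¹ = g a * ((c : H) * ((g a)⁻¹ * g b)) * (g b)⁻¹ := by group
      _ = g a * (((g a)⁻¹ * g b) * (c : H)) * (g b)⁻¹ := by rw [hcomm]
      _ = g b * (c : H) * (g b)⁻¹ := by group
  have h := Nat.card_le_card_of_injective f hf
  rwa [Nat.card_prod] at h

theorem card_center_le : Nat.card (Subgroup.center H) ≤ Nat.card (ConjClasses H) := by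
  refine Nat.card_le_card_of_injective (fun z => ConjClasses.mk (z : H)) fun a b h => ?_
  obtain ⟨g, hg⟩ := isConj_iff.mp (ConjClasses.mk_eq_mk_iff_isConj.mp h)
  apply Subtype.ext
  rw [← hg, Subgroup.mem_center_iff.mp a.2 g, mul_inv_cancel_right]

theorem five_six {ρ : H →* GL (Fin n) (ZMod p)} (hρ : IsTransLin ρ) (hp : p = 5) (hn : n = 6) :
    p ≤ Nat.card (ConjClasses H) := by
  have hd := pow_sub_one_dvd_card hρ (by omega)
  subst hp hn
  have hpr : ∀ s ∈ ({2, 3, 7, 31} : Finset ℕ), ∃ x : H, orderOf x = s := by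
    intro s hs
    simp only [Finset.mem_insert, Finset.mem_singleton] at hs
    haveI : Fact s.Prime := ⟨by rcases hs with rfl | rfl | rfl | rfl <;> norm_num⟩
    refine exists_prime_orderOf_dvd_card' s (Dvd.dvd.trans ?_ hd)
    rcases hs with rfl | rfl | rfl | rfl <;> norm_num
  obtain ⟨a, ha⟩ := hpr 2 (by simp)
  obtain ⟨b, hb⟩ := hpr 3 (by simp)
  obtain ⟨c, hc⟩ := hpr 7 (by simp)
  obtain ⟨e, he⟩ := hpr 31 (by simp)
  let f : Fin 5 → ConjClasses H := fun j => ConjClasses.mk (![1, a, b, c, e] j)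
  have hf : Function.Injective f := by
    intro i j h
    obtain ⟨u, hu⟩ := isConj_iff.mp (ConjClasses.mk_eq_mk_iff_isConj.mp h)
    have ho := orderOf_injective (MulAut.conj u).toMonoidHom (MulAut.conj u).injective
      (![1, a, b, c, e] i)
    simp only [MulEquiv.coe_toMonoidHom, MulAut.conj_apply, hu] at ho
    fin_cases i <;> fin_cases j <;> first | rfl | (simp [ha, hb, hc, he, orderOf_one] at ho)
  have h := Nat.card_le_card_of_injective f hf
  rwa [Nat.card_eq_fintype_card, Fintype.card_fin] at h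

theorem mul_sq_le {p n : ℕ} (hp : 5 ≤ p) (hn : 3 ≤ n) : p * n ^ 2 + 1 ≤ p ^ n := by
  induction n, hn using Nat.le_induction with
  | base => nlinarith [Nat.mul_le_mul hp hp]
  | succ m hm ih =>
    rw [pow_succ p m]
    nlinarith [Nat.mul_le_mul_left (p ^ m) hp, Nat.mul_le_mul_left p (Nat.mul_le_mul hm hm)]

theorem big_six {p n : ℕ} (hp : 5 ≤ p) (hn : 6 ≤ n) :
    2 * n * (n + 1) * (2 * n + 1) ≤ p ^ (n - 1) := by
  obtain ⟨k, rfl⟩ : ∃ k, n = k + 6 := ⟨n - 6, by omega⟩
  refine le_trans ?_ (Nat.pow_le_pow_left hp _)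
  clear hn hp
  induction k with
  | zero => norm_num
  | succ m ih =>
    have h : (5 : ℕ) ^ (m + 1 + 6 - 1) = 5 ^ (m + 6 - 1) * 5 := by
      rw [← pow_succ]; congr 1
    rw [h]
    nlinarith [ih, sq_nonneg m]

theorem big (hLift : LiftStmt.{u}) : BigStmt.{u} := by
  intro H _ _ p n _ ρ hρ hp5 hn3
  classical
  by_cases h56 : p = 5 ∧ n = 6
  · exact five_six hρ h56.1 h56.2
  have hpp : p.Prime := Fact.out
  obtain ⟨r, hr, hrd, hprim, hbig⟩ := S3430.result p n hpp.two_le (by omega) (fun h => by omega)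
    (fun h => by omega) (fun h => by omega) h56
  haveI := Fact.mk hr
  have hpn : 1 ≤ p ^ n := Nat.one_le_pow _ _ hpp.pos
  have hrp : r ≠ p := by
    rintro rfl
    have h1 : r ∣ r ^ n := dvd_pow_self r (by omega)
    have := Nat.dvd_sub h1 hrd
    rw [Nat.sub_sub_self hpn] at this
    exact hr.ne_one (Nat.dvd_one.mp this)
  have hpow : ∀ i, ((p : ZMod r) ^ i = 1 ↔ r ∣ p ^ i - 1) := fun i => by
    rw [← ZMod.natCast_eq_zero_iff (p ^ i - 1) r, Nat.cast_sub (Nat.one_le_pow _ _ hpp.pos),
      Nat.cast_pow, Nat.cast_one, sub_eq_zero]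
  have hi : orderOf (p : ZMod r) = n := (orderOf_eq_iff (by omega)).mpr
    ⟨(hpow n).mpr hrd, fun m hm hm0 e => hprim m hm0 hm ((hpow m).mp e)⟩
  have hnr : n ∣ r - 1 := hi ▸ ZMod.orderOf_dvd_card_sub_one (fun e => hrp
    ((Nat.prime_dvd_prime_iff_eq hr hpp).mp ((ZMod.natCast_eq_zero_iff p r).mp e)))
  have hdvd := pow_sub_one_dvd_card hρ (by omega)
  have hrH : r ∣ Nat.card H := hrd.trans hdvd
  obtain ⟨x, hx⟩ := exists_prime_orderOf_dvd_card' r hrH
  have hcyc : ∀ y : H, orderOf y = r → IsCyclic (Subgroup.centralizer ({y} : Set H)) :=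
    fun y hy => isCyclic_centralizer ρ hρ.inj (by omega) hr hrp hi hy
  haveI := hcyc x hx
  set A := Subgroup.centralizer ({x} : Set H) with hA
  by_cases hnorm : (Subgroup.zpowers x).Normal
  · have hm : A.index ≤ n := index_centralizer_le ρ hρ.inj hr hrp hx hnorm
    haveI : IsMulCommutative A := ⟨⟨(IsCyclic.commGroup (α := A)).mul_comm⟩⟩
    have h1 := card_le_index_mul_classes A
    have h2 := Nat.le_of_dvd Nat.card_pos hdvd
    rw [← A.card_mul_index] at h2
    have h3 := mul_sq_le hp5 hn3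
    have h4 : Nat.card A * A.index ≤ n * n * Nat.card (ConjClasses H) :=
      calc Nat.card A * A.index ≤ A.index * Nat.card (ConjClasses H) * A.index :=
            Nat.mul_le_mul_right _ h1
        _ ≤ n * Nat.card (ConjClasses H) * n := by gcongr
        _ = n * n * Nat.card (ConjClasses H) := by ring
    have h5 : n * n * p ≤ n * n * Nat.card (ConjClasses H) := by
      have : n * n * p = p * n ^ 2 := by ring
      omega
    exact Nat.le_of_mul_le_mul_left h5 (by positivity)
  -- the subgroup of order `r` is not normal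
  obtain ⟨R, hxR⟩ := (IsPGroup.of_card (p := r) (n := 1) (by rw [Nat.card_zpowers, hx, pow_one] :
    Nat.card (Subgroup.zpowers x) = r ^ 1)).exists_le_sylow
  have hxR' : x ∈ (R : Subgroup H) := hxR (Subgroup.mem_zpowers x)
  haveI : Nontrivial (R : Subgroup H) :=
    ⟨⟨⟨x, hxR'⟩, 1, fun e => hr.ne_one (by
      rw [← hx, show x = 1 from congrArg Subtype.val e, orderOf_one])⟩⟩
  haveI := R.isPGroup'.center_nontrivial
  obtain ⟨⟨z, hzc⟩, hz1⟩ := exists_ne (1 : Subgroup.center (R : Subgroup H))
  obtain ⟨j, hj⟩ := IsPGroup.iff_orderOf.mp R.isPGroup' z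
  have hj0 : j ≠ 0 := by
    rintro rfl
    rw [pow_zero, orderOf_eq_one_iff] at hj
    exact hz1 (Subtype.ext hj)
  set w : H := ((z ^ r ^ (j - 1) : (R : Subgroup H)) : H) with hw
  have hwr : orderOf w = r := by
    rw [hw, Subgroup.orderOf_coe, orderOf_pow_of_dvd (pow_ne_zero _ hr.ne_zero)
      (hj ▸ pow_dvd_pow r (Nat.sub_le _ _)), hj, Nat.pow_div (Nat.sub_le _ _) hr.pos,
      Nat.sub_sub_self (Nat.one_le_iff_ne_zero.mpr hj0), pow_one]
  have hRw : (R : Subgroup H) ≤ Subgroup.centralizer ({w} : Set H) := fun a ha => by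
    rw [Subgroup.mem_centralizer_iff]
    intro y' hy'
    rw [Set.mem_singleton_iff] at hy'
    subst y'
    exact congrArg Subtype.val
      (Subgroup.mem_center_iff.mp (Subgroup.pow_mem _ hzc (r ^ (j - 1))) ⟨a, ha⟩).symm
  haveI := hcyc w hwr
  haveI hRcyc : IsCyclic (R : Subgroup H) :=
    isCyclic_of_injective (Subgroup.inclusion hRw) (Subgroup.inclusion_injective hRw)
  have hcommR : ∀ a ∈ (R : Subgroup H), ∀ b ∈ (R : Subgroup H), a * b = b * a := fun a ha b hb =>
    congrArg Subtype.val ((IsCyclic.commGroup (α := (R : Subgroup H))).mul_comm ⟨a, ha⟩ ⟨b, hb⟩)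
  have huniq : ∀ y ∈ (R : Subgroup H), y ^ r = 1 → y ∈ Subgroup.zpowers x := by
    intro y hy hyr
    by_contra hny
    have := Fintype.ofFinite (R : Subgroup H)
    have hle := IsCyclic.card_pow_eq_one_le (α := (R : Subgroup H)) hr.pos
    have hsub : (insert (⟨y, hy⟩ : (R : Subgroup H))
        ((Finset.range r).image fun i => (⟨x, hxR'⟩ : (R : Subgroup H)) ^ i)) ⊆
        Finset.univ.filter fun a : (R : Subgroup H) => a ^ r = 1 := by
      intro a ha
      rw [Finset.mem_filter]
      refine ⟨Finset.mem_univ _, ?_⟩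
      rcases Finset.mem_insert.mp ha with rfl | h
      · exact Subtype.ext hyr
      · obtain ⟨i, -, rfl⟩ := Finset.mem_image.mp h
        refine Subtype.ext ?_
        simp only [SubgroupClass.coe_pow, OneMemClass.coe_one, ← pow_mul]
        rw [mul_comm, pow_mul, ← hx, pow_orderOf_eq_one, one_pow]
    have h := (Finset.card_le_card hsub).trans hle
    rw [Finset.card_insert_of_notMem, Finset.card_image_of_injOn, Finset.card_range] at h
    · omega
    · intro a ha b hb e
      exact pow_injOn_Iio_orderOf (x := x) (by simpa [hx] using ha) (by simpa [hx] using hb)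
        (congrArg Subtype.val e)
    · intro hm
      obtain ⟨i, -, hi'⟩ := Finset.mem_image.mp hm
      have hyx : x ^ i = y := congrArg Subtype.val hi'
      exact hny (hyx ▸ Subgroup.pow_mem _ (Subgroup.mem_zpowers x) i)
  have hnn : ∀ N : Subgroup H, N.Normal → Nat.card N ≠ r := by
    intro N hN hcard
    obtain ⟨S, hS⟩ := (IsPGroup.of_card (p := r) (n := 1) (by rw [hcard, pow_one] :
      Nat.card N = r ^ 1)).exists_le_sylow
    have hNR : N ≤ (R : Subgroup H) := by
      obtain ⟨g, hg⟩ := MulAction.exists_smul_eq H S R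
      intro a ha
      have := hN.conj_mem a ha g⁻¹
      rw [← hg, Sylow.coe_subgroup_smul]
      exact Subgroup.mem_pointwise_smul_iff_inv_smul_mem.mpr (by
        simpa [MulAut.smul_def, ← map_inv] using hS this)
    have hle : N ≤ Subgroup.zpowers x := fun a ha => huniq a (hNR ha) (by
      have h := pow_card_eq_one' (G := N) (x := ⟨a, ha⟩)
      rw [hcard] at h
      exact congrArg Subtype.val h)
    have he : N = Subgroup.zpowers x :=
      Subgroup.eq_of_le_of_card_ge hle (by rw [hcard, Nat.card_zpowers, hx])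
    exact hnorm (he ▸ hN)
  have hstar : ∀ y ∈ (R : Subgroup H), y ≠ 1 →
      Subgroup.centralizer ({y} : Set H) =
        Subgroup.centralizer ((R : Subgroup H) : Set H) := by
    intro y hy hy1
    apply le_antisymm
    · intro c hc
      obtain ⟨i, hi'⟩ := IsPGroup.iff_orderOf.mp R.isPGroup' ⟨y, hy⟩
      rw [Subgroup.orderOf_mk] at hi'
      have hi0 : i ≠ 0 := fun e => hy1 (orderOf_eq_one_iff.mp (by rw [hi', e, pow_zero]))
      have hor : orderOf (y ^ r ^ (i - 1)) = r := by
        rw [orderOf_pow_of_dvd (pow_ne_zero _ hr.ne_zero)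
          (hi' ▸ pow_dvd_pow r (Nat.sub_le _ _)), hi', Nat.pow_div (Nat.sub_le _ _) hr.pos,
          Nat.sub_sub_self (Nat.one_le_iff_ne_zero.mpr hi0), pow_one]
      have hmem := huniq _ (Subgroup.pow_mem _ hy (r ^ (i - 1)))
        ((orderOf_dvd_iff_pow_eq_one (n := r)).mp hor.dvd)
      have heq : Subgroup.zpowers (y ^ r ^ (i - 1)) = Subgroup.zpowers x :=
        Subgroup.eq_of_le_of_card_ge (Subgroup.zpowers_le.mpr hmem)
          (by rw [Nat.card_zpowers, Nat.card_zpowers, hx, hor])
      have hcx : c ∈ A := by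
        obtain ⟨k, hk⟩ : x ∈ Subgroup.zpowers (y ^ r ^ (i - 1)) :=
          heq ▸ Subgroup.mem_zpowers x
        rw [hA, Subgroup.mem_centralizer_iff]
        intro y' hy'
        rw [Set.mem_singleton_iff] at hy'
        subst y'
        have hyc : Commute y c := Subgroup.mem_centralizer_iff.mp hc y rfl
        have := (hyc.pow_left (r ^ (i - 1))).zpow_left k
        rw [show (y ^ r ^ (i - 1)) ^ k = x from hk] at this
        exact this
      rw [Subgroup.mem_centralizer_iff]
      intro a ha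
      have haA : a ∈ A := by
        rw [hA, Subgroup.mem_centralizer_iff]
        intro y' hy'
        rw [Set.mem_singleton_iff] at hy'
        subst y'
        exact hcommR x hxR' a ha
      exact congrArg Subtype.val ((IsCyclic.commGroup (α := A)).mul_comm ⟨a, haA⟩ ⟨c, hcx⟩)
    · exact Subgroup.centralizer_le (Set.singleton_subset_iff.mpr hy)
  obtain ⟨χ, hχ, hdeg, hfaith⟩ := hLift H p n ρ hρ.inj hρ.coprime
  obtain ⟨a, ha⟩ := IsPGroup.iff_card.mp R.isPGroup'
  have hRn : ¬ (R : Subgroup H).Normal := by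
    intro hn'
    refine hnorm ⟨fun y hy g => ?_⟩
    obtain ⟨k, rfl⟩ := hy
    refine huniq _ (hn'.conj_mem _ (Subgroup.zpow_mem _ hxR' k) g) ?_
    show (g * x ^ k * g⁻¹) ^ r = 1
    rw [conj_pow, ← zpow_natCast (x ^ k), ← zpow_mul, mul_comm, zpow_mul, zpow_natCast, ← hx,
      pow_orderOf_eq_one, one_zpow, mul_one, mul_inv_cancel]
  have hbound : r ^ a ≤ n ^ 2 + 1 := by
    by_contra hlt
    exact hRn (S4485.result r hr hrH R hstar a ha χ hχ hfaith (by rw [hdeg]; omega))
  have hr_n : n + 1 ≤ r := by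
    have := Nat.le_of_dvd (by have := hr.two_le; omega) hnr
    have := hr.two_le
    omega
  have hsq : ¬ r ^ 2 ∣ Nat.card H := by
    intro hd
    obtain ⟨Q, hQ⟩ := Sylow.exists_subgroup_card_pow_prime r hd
    obtain ⟨S, hS⟩ := (IsPGroup.of_card hQ).exists_le_sylow
    have h1 := Subgroup.card_le_of_le hS
    rw [hQ, show Nat.card (S : Subgroup H) = Nat.card (R : Subgroup H) from
      Nat.card_congr (S.equiv R).toEquiv, ha] at h1
    nlinarith
  have hgt : n + 1 < r := hbig.resolve_right fun h => hsq (h.trans hdvd)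
  have hr2 : 2 * n + 1 ≤ r := by
    obtain ⟨t, ht⟩ := hnr
    have : 2 ≤ t := by
      by_contra h
      interval_cases t <;> omega
    have := Nat.mul_le_mul_left n this
    omega
  have hle := S4503.result r hr hrH hsq hnn χ hχ hfaith
  rw [hdeg] at hle
  have hr3 : 2 * n + 1 = r := le_antisymm hr2 hle
  obtain ⟨e⟩ := S4504.result r hr hrH hsq hnn χ hχ hfaith (by rw [hdeg, hr3])
  have hpsl := Agent.LinearGroup.gcd_mul_card_PSL_two (F := ZMod r)
  rw [Nat.card_zmod, show Nat.gcd 2 (r - 1) = 2 by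
    rw [← hr3]; simp, ← Nat.card_congr e.toEquiv] at hpsl
  have hcardH : Nat.card H = Nat.card (H ⧸ Subgroup.center H) * Nat.card (Subgroup.center H) := (Subgroup.center H).card_eq_card_quotient_mul_card_subgroup
  set M := Nat.card (H ⧸ Subgroup.center H) with hM
  refine le_trans ?_ card_center_le
  have hM2 : M = 2 * n * (n + 1) * (2 * n + 1) := by
    have : r * (r ^ 2 - 1) = 2 * (2 * n * (n + 1) * (2 * n + 1)) := by
      rw [← hr3, show (2 * n + 1) ^ 2 = 4 * n * (n + 1) + 1 by ring, Nat.add_sub_cancel]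
      ring
    omega
  have hkey : p ^ n - 1 ≤ Nat.card (Subgroup.center H) * M := by
    rw [mul_comm, ← hcardH]
    exact Nat.le_of_dvd Nat.card_pos hdvd
  by_cases hn6 : 6 ≤ n
  · have h6 := big_six hp5 hn6
    by_contra hlt
    push Not at hlt
    have h7 : Nat.card (Subgroup.center H) * M ≤ (p - 1) * p ^ (n - 1) :=
      Nat.mul_le_mul (by omega) (hM2 ▸ h6)
    have h8 : (p - 1) * p ^ (n - 1) + p ^ (n - 1) = p ^ n := by
      rw [← Nat.succ_mul, Nat.succ_eq_add_one, Nat.sub_add_cancel hpp.one_le, ← pow_succ']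
      congr 1
      omega
    have h9 : 1 < p ^ (n - 1) := Nat.one_lt_pow (by omega) hpp.one_lt
    omega
  interval_cases n
  · -- `n = 3`, `r = 7`
    norm_num at hr3 hM2
    subst hr3
    rw [hM2] at hcardH hkey
    by_cases hp13 : 13 ≤ p
    · by_contra hlt
      push Not at hlt
      have h7 : Nat.card (Subgroup.center H) * 168 ≤ (p - 1) * 168 := Nat.mul_le_mul_right _ (by omega)
      obtain ⟨q, rfl⟩ : ∃ q, p = q + 13 := ⟨p - 13, by omega⟩
      have h8 : (q + 13) ^ 3 = q * q * q + 39 * (q * q) + 507 * q + 2197 := by ring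
      omega
    have : p = 5 ∨ p = 7 ∨ p = 11 := by
      have h12 : p ≤ 12 := by omega
      interval_cases p <;> first | omega | (exfalso; revert hpp; norm_num)
    rcases this with rfl | rfl | rfl
    · norm_num at hrd
    · exact absurd rfl hrp
    · have h19 : 19 ∣ 168 * Nat.card (Subgroup.center H) := hcardH ▸ (by norm_num : (19 : ℕ) ∣ 11 ^ 3 - 1).trans hdvd
      have h19' : 19 ∣ Nat.card (Subgroup.center H) :=
        (Nat.Coprime.dvd_mul_left (by norm_num : Nat.Coprime 19 168)).mp h19
      exact le_trans (by norm_num) (Nat.le_of_dvd Nat.card_pos h19')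
  · -- `n = 4`
    norm_num at hr3
    subst hr3
    exact absurd hr (by norm_num)
  · -- `n = 5`
    norm_num at hr3 hM2
    rw [hM2] at hkey
    by_contra hlt
    push Not at hlt
    have h7 : Nat.card (Subgroup.center H) * 660 ≤ (p - 1) * 660 := Nat.mul_le_mul_right _ (by omega)
    obtain ⟨q, rfl⟩ : ∃ q, p = q + 5 := ⟨p - 5, by omega⟩
    have h8 : (q + 5) ^ 5 = q ^ 5 + 25 * q ^ 4 + 250 * q ^ 3 + 1250 * q ^ 2 + 3125 * q + 3125 := by
      ring
    omega

end Cfsg.Agent.OneClass35.Big

namespace Cfsg.Agent.OneClass35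

universe u

theorem big (hLift : LiftStmt.{u}) : BigStmt.{u} := Big.big hLift

end Cfsg.Agent.OneClass35
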