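import Cfsg.Agent.OneClass35.Count
import Mathlib.LinearAlgebra.Matrix.ToLin

/-!
# S4878: the linear core from the pieces
-/

set_option autoImplicit false
set_option linter.unusedSectionVars false

namespace Cfsg.Agent.OneClass35

universe u

namespace CoreAux

variable {H : Type u} [Group H] [Finite H] {p n : ℕ} [hp : Fact p.Prime]
  {ρ : H →* GL (Fin n) (ZMod p)}

/-- The orbit of a nonzero vector forces `p ^ n - 1 ≤ |H|`. -/
theorem sub_one_le_card (hρ : IsTransLin ρ) (hn : 1 ≤ n) : p ^ n - 1 ≤ Nat.card H := by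
  classical
  let v0 : Fin n → ZMod p := Pi.single ⟨0, hn⟩ 1
  have hv0 : v0 ≠ 0 := fun h => one_ne_zero (α := ZMod p) (by
    simpa [v0] using congrFun h ⟨0, hn⟩)
  choose f hf using fun w : {w : Fin n → ZMod p // w ≠ 0} => hρ.trans v0 w.1 hv0 w.2
  have hinj : Function.Injective f := fun a b hab =>
    Subtype.ext ((hf a).symm.trans (hab ▸ hf b))
  have h1 := Nat.card_le_card_of_injective f hinj
  have h2 : Nat.card {w : Fin n → ZMod p // w ≠ 0} = p ^ n - 1 := by
    rw [Nat.card_eq_fintype_card, Fintype.card_subtype_compl, Fintype.card_fun,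
      Fintype.card_fin, ZMod.card, Fintype.card_subtype_eq]
  omega

theorem dim_one {ρ : H →* GL (Fin 1) (ZMod p)} (hρ : IsTransLin ρ) :
    Nat.card H = p - 1 ∧ Nat.card (ConjClasses H) = p - 1 := by
  have hcomm : ∀ a b : H, a * b = b * a := fun a b => hρ.inj (Units.ext (by
    rw [map_mul, map_mul, Units.val_mul, Units.val_mul]
    ext i j
    simp [Matrix.mul_apply, Fin.eq_zero i, Fin.eq_zero j, mul_comm]))
  have hle : Nat.card H ≤ p - 1 := by
    let d : H → (ZMod p)ˣ := fun h => Matrix.GeneralLinearGroup.det (ρ h)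
    have hd : Function.Injective d := fun a b hab => hρ.inj (Units.ext (by
      have h := congrArg Units.val hab
      simp only [d, Matrix.GeneralLinearGroup.val_det_apply, Matrix.det_fin_one] at h
      ext i j
      rw [Fin.eq_zero i, Fin.eq_zero j]
      exact h))
    have h1 := Nat.card_le_card_of_injective d hd
    rwa [Nat.card_eq_fintype_card (α := (ZMod p)ˣ), ZMod.card_units] at h1
  have hge := sub_one_le_card hρ le_rfl
  rw [pow_one] at hge
  have hH : Nat.card H = p - 1 := le_antisymm hle hge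
  refine ⟨hH, ?_⟩
  rw [← hH]
  refine (Nat.card_eq_of_bijective ConjClasses.mk ⟨fun a b h => ?_, Quotient.mk_surjective⟩).symm
  obtain ⟨c, hc⟩ := isConj_iff.mp (ConjClasses.mk_eq_mk_iff_isConj.mp h)
  rwa [hcomm c a, mul_inv_cancel_right] at hc

end CoreAux

theorem core (hLift : LiftStmt.{u}) (hBig : BigStmt.{u}) (hShape : ShapeStmt.{u})
    (hTwo : TwoStmt.{u}) : CoreStmt.{u} := by
  intro H _ _ p n _ ρ hρ hn
  have hp : p.Prime := Fact.out
  rcases Nat.lt_or_ge n 2 with h1 | h2
  · obtain rfl : n = 1 := by omega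
    exact Or.inr (Or.inl ⟨rfl, CoreAux.dim_one hρ⟩)
  have hcard := CoreAux.sub_one_le_card hρ hn
  have hsq : p * p ≤ p ^ n := by
    rw [← sq]; exact Nat.pow_le_pow_right hp.pos h2
  by_cases hp5 : 5 ≤ p
  · rcases Nat.lt_or_ge n 3 with h3 | h3
    · obtain rfl : n = 2 := by omega
      obtain ⟨χ, h1, h2', h3'⟩ := hLift H p 2 ρ hρ.inj hρ.coprime
      rcases hTwo H p ρ hρ hp5 (hShape H χ h1 h2' h3') with h | h
      · exact Or.inl h
      · exact Or.inr (Or.inr ⟨rfl, h⟩)
    · exact Or.inl (hBig H p n ρ hρ hp5 h3)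
  · refine Or.inl ?_
    have h4 : p ≠ 4 := fun h => by subst h; norm_num at hp
    have hp3 : p ≤ 3 := by omega
    have h2p := hp.two_le
    by_contra hk
    have hk2 : Nat.card (ConjClasses H) ≤ 2 := by omega
    have hcl := Count.card_le_two_of_classes (G := H) hk2
    have : 4 ≤ p * p := Nat.mul_le_mul h2p h2p
    omega

end Cfsg.Agent.OneClass35
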