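import Cfsg.Agent.OneClass35.Defs
import Cfsg.Agent.Lib.Thompson.Cores
import Cfsg.Agent.Lib.Thompson.PSolvable

/-!
# S4878: elementary counting lemmas
-/

set_option autoImplicit false
set_option linter.unusedSectionVars false

open scoped Pointwise

namespace Cfsg.Agent.OneClass35.Count

universe u

variable {G : Type u} [Group G] [Finite G]

theorem orderOf_mul_eq_one_of {Q : Type*} [Group Q] {a : Q} {m n : ℕ} (hm : a ^ m = 1)
    (hn : a ^ n = 1) (h : m.Coprime n) : a = 1 :=
  orderOf_eq_one_iff.mp (Nat.eq_one_of_dvd_coprimes h (orderOf_dvd_of_pow_eq_one hm)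
    (orderOf_dvd_of_pow_eq_one hn))

/-- The power of `g` that is the `p`-part, with the same image when that is a `p`-element. -/
theorem exists_pElement_preimage {p : ℕ} [hp : Fact p.Prime] (N : Subgroup G) [N.Normal]
    (x : G ⧸ N) {k : ℕ} (hx : orderOf x = p ^ k) :
    ∃ y : G, QuotientGroup.mk' N y = x ∧ ∃ j : ℕ, orderOf y = p ^ j := by
  obtain ⟨g, rfl⟩ := QuotientGroup.mk'_surjective N x
  obtain ⟨a, m, hm, hgm⟩ := Nat.exists_eq_pow_mul_and_not_dvd (orderOf_pos g).ne' p hp.out.ne_one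
  have hcop : m.Coprime (p ^ k) := ((hp.out.coprime_iff_not_dvd.mpr hm).symm).pow_right k
  obtain ⟨t, ht⟩ : ∃ t : ℕ, ∃ s : ℤ, (m : ℤ) * t = 1 + s * (p ^ k : ℕ) := by
    have hb := Nat.gcd_eq_gcd_ab m (p ^ k)
    rw [hcop.gcd_eq_one] at hb
    have hpk : (0 : ℤ) < (p ^ k : ℕ) := by exact_mod_cast pow_pos hp.out.pos k
    set A := Nat.gcdA m (p ^ k)
    set B := Nat.gcdB m (p ^ k)
    refine ⟨(A % (p ^ k : ℕ)).toNat, -B - m * (A / (p ^ k : ℕ)), ?_⟩
    rw [Int.toNat_of_nonneg (Int.emod_nonneg _ hpk.ne')]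
    have := Int.emod_add_mul_ediv A (p ^ k : ℕ)
    push_cast at hb this ⊢
    linear_combination (-1 : ℤ) * hb + (m : ℤ) * this
  obtain ⟨s, hs⟩ := ht
  refine ⟨g ^ (m * t), ?_, ?_⟩
  · rw [map_pow, ← zpow_natCast]
    push_cast
    rw [hs, zpow_add, zpow_one, mul_comm s, zpow_mul, zpow_natCast, ← hx, pow_orderOf_eq_one,
      one_zpow, mul_one]
  · have h1 : (g ^ (m * t)) ^ p ^ a = 1 := by
      rw [← pow_mul, show m * t * p ^ a = orderOf g * t by rw [hgm]; ring, pow_mul,
        pow_orderOf_eq_one, one_pow]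
    obtain ⟨j, -, hj⟩ := (Nat.dvd_prime_pow hp.out).mp (orderOf_dvd_of_pow_eq_one h1)
    exact ⟨j, hj⟩

/-- A `p`-regular element of a quotient by a `p'`-subgroup has only `p`-regular preimages. -/
theorem not_dvd_orderOf_of_quotient {p : ℕ} [hp : Fact p.Prime] (N : Subgroup G) [N.Normal]
    (hN : ¬ p ∣ Nat.card N) (g : G) (hg : ¬ p ∣ orderOf (QuotientGroup.mk' N g)) :
    ¬ p ∣ orderOf g := by
  intro h
  have hmem : g ^ orderOf (QuotientGroup.mk' N g) ∈ N := by
    rw [← QuotientGroup.eq_one_iff]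
    show QuotientGroup.mk' N (g ^ _) = 1
    rw [map_pow, pow_orderOf_eq_one]
  have h1 : g ^ (orderOf (QuotientGroup.mk' N g) * Nat.card N) = 1 := by
    rw [pow_mul]
    exact congrArg Subtype.val (pow_card_eq_one' (x := (⟨_, hmem⟩ : N)))
  rcases hp.out.dvd_mul.mp (h.trans (orderOf_dvd_of_pow_eq_one h1)) with h2 | h2
  · exact hg h2
  · exact hN h2

theorem regCount_quotient_lt {p : ℕ} [hp : Fact p.Prime] (N : Subgroup G) [hNn : N.Normal]
    (hN1 : N ≠ ⊥) (hN : ¬ p ∣ Nat.card N) : regCount (G ⧸ N) p + 1 ≤ regCount G p := by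
  classical
  let f : {c : ConjClasses G // ∃ g : G, ConjClasses.mk g = c ∧ ¬ p ∣ orderOf g} →
      {c : ConjClasses (G ⧸ N) // ∃ g : G ⧸ N, ConjClasses.mk g = c ∧ ¬ p ∣ orderOf g} := fun c =>
    ⟨ConjClasses.map (QuotientGroup.mk' N) c.1, by
      obtain ⟨g, hg, hr⟩ := c.2
      refine ⟨QuotientGroup.mk' N g, by rw [← hg]; rfl, fun h => hr ?_⟩
      exact h.trans (orderOf_map_dvd _ g)⟩
  have hf : Function.Surjective f := by
    rintro ⟨c, g, rfl, hg⟩
    obtain ⟨a, rfl⟩ := QuotientGroup.mk'_surjective N g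
    exact ⟨⟨ConjClasses.mk a, a, rfl, not_dvd_orderOf_of_quotient N hN a hg⟩, rfl⟩
  obtain ⟨n, hn, hn1⟩ := (Subgroup.ne_bot_iff_exists_ne_one).mp hN1 |>.elim
    fun a ha => (⟨a.1, a.2, fun h => ha (Subtype.ext h)⟩ : ∃ n, n ∈ N ∧ n ≠ 1)
  have hreg : ∀ a ∈ N, ¬ p ∣ orderOf a := fun a ha h =>
    hN (h.trans (Subgroup.orderOf_dvd_natCard N ha))
  have := Fintype.ofFinite {c : ConjClasses G // ∃ g : G, ConjClasses.mk g = c ∧ ¬ p ∣ orderOf g}
  have := Fintype.ofFinite
    {c : ConjClasses (G ⧸ N) // ∃ g : G ⧸ N, ConjClasses.mk g = c ∧ ¬ p ∣ orderOf g}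
  unfold regCount
  rw [Nat.card_eq_fintype_card, Nat.card_eq_fintype_card, Nat.add_one_le_iff]
  refine Fintype.card_lt_of_surjective_not_injective f hf fun hinj => hn1 ?_
  have h := @hinj ⟨ConjClasses.mk n, n, rfl, hreg n hn⟩
    ⟨ConjClasses.mk 1, 1, rfl, hreg 1 N.one_mem⟩ (Subtype.ext (by
      show ConjClasses.mk (QuotientGroup.mk' N n) = ConjClasses.mk (QuotientGroup.mk' N 1)
      rw [map_one]
      exact congrArg _ ((QuotientGroup.eq_one_iff n).mpr hn)))
  have h' : IsConj (1 : G) n :=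
    ConjClasses.mk_eq_mk_iff_isConj.mp (congrArg Subtype.val h).symm
  exact isConj_one_left.mp h'.symm

/-- A finite group with at most two classes has at most two elements. -/
theorem card_le_two_of_classes (h : Nat.card (ConjClasses G) ≤ 2) : Nat.card G ≤ 2 := by
  classical
  by_contra hc
  have hnt : Nontrivial G := Finite.one_lt_card_iff_nontrivial.mp (by omega)
  obtain ⟨a, ha⟩ := exists_ne (1 : G)
  have key : ∀ b : G, b ≠ 1 → IsConj a b := by
    intro b hb
    by_contra hab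
    have hinj : Function.Injective
        (fun i : Fin 3 => ![ConjClasses.mk (1 : G), ConjClasses.mk a, ConjClasses.mk b] i) := by
      have e : ∀ x y : G, ConjClasses.mk x = ConjClasses.mk y → IsConj x y := fun x y =>
        ConjClasses.mk_eq_mk_iff_isConj.mp
      intro i j hij
      fin_cases i <;> fin_cases j <;> simp at hij ⊢
      · exact ha (isConj_one_left.mp (e _ _ hij.symm))
      · exact hb (isConj_one_left.mp (e _ _ hij.symm))
      · exact ha (isConj_one_left.mp (e _ _ hij))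
      · exact hab (e _ _ hij)
      · exact hb (isConj_one_left.mp (e _ _ hij))
      · exact hab (e _ _ hij.symm)
    have := Nat.card_le_card_of_injective _ hinj
    rw [Nat.card_eq_fintype_card, Fintype.card_fin] at this
    omega
  have hset : MulAction.orbit (ConjAct G) a = {b : G | b ≠ 1} := by
    ext b
    rw [ConjAct.mem_orbit_conjAct]
    constructor
    · intro hb hb1
      exact ha (isConj_one_left.mp (hb1 ▸ hb).symm)
    · intro hb
      exact (key b hb).symm
  have hcard : Nat.card (MulAction.orbit (ConjAct G) a) = Nat.card G - 1 := by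
    rw [hset]
    show Nat.card ↑(({1} : Set G)ᶜ) = _
    rw [Nat.card_coe_set_eq, Set.ncard_compl, Set.ncard_singleton]
  have hdvd : Nat.card (MulAction.orbit (ConjAct G) a) ∣ Nat.card G := by
    have h1 := (MulAction.index_stabilizer (G := ConjAct G) (x := a))
    rw [← Nat.card_coe_set_eq] at h1
    exact ⟨_, by rw [← h1, mul_comm, Subgroup.card_mul_index]; rfl⟩
  rw [hcard] at hdvd
  have h2 : Nat.card G - 1 ∣ 1 := by
    have := Nat.dvd_sub hdvd (dvd_refl (Nat.card G - 1))
    rwa [show Nat.card G - (Nat.card G - 1) = 1 by omega] at this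
  have := Nat.le_of_dvd Nat.one_pos h2
  omega

end Cfsg.Agent.OneClass35.Count
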