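import Cfsg.Prelude.Def_Solvable
import Cfsg.Prelude.Def_Perm
import Cfsg.Prelude.Def_Local
import Cfsg.Prelude.Def_Characters
import Cfsg.Prelude.Def_Blocks
import Mathlib.GroupTheory.ClassEquation
import Mathlib.LinearAlgebra.Matrix.SpecialLinearGroup
import Mathlib.LinearAlgebra.Matrix.GeneralLinearGroup.Defs
import Mathlib.Data.ZMod.Basic

/-!
# S4878: interfaces

`H` is a group of order prime to `p` acting faithfully on `(ZMod p)^n`, transitively on the
nonzero vectors.  The goal is `p ≤ k(H)` up to the two exceptions.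
-/

set_option autoImplicit false

namespace Cfsg.Agent.OneClass35

universe u

/-- A faithful linear group of order prime to `p` that is transitive on nonzero vectors. -/
structure IsTransLin {H : Type u} [Group H] {p n : ℕ} (ρ : H →* GL (Fin n) (ZMod p)) : Prop where
  inj : Function.Injective ρ
  coprime : ¬ p ∣ Nat.card H
  trans : ∀ v w : Fin n → ZMod p, v ≠ 0 → w ≠ 0 →
    ∃ h : H, (ρ h : Matrix (Fin n) (Fin n) (ZMod p)).mulVec v = w

/-- The number of `p`-regular classes, as in the statement. -/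
noncomputable abbrev regCount (G : Type u) [Group G] (p : ℕ) : ℕ :=
  Nat.card {c : ConjClasses G // ∃ g : G, ConjClasses.mk g = c ∧ ¬ p ∣ orderOf g}

/-- Piece LIFT: a faithful ordinary character of the same degree. -/
def LiftStmt : Prop :=
  ∀ (H : Type u) [Group H] [Finite H] (p n : ℕ) [Fact p.Prime] (ρ : H →* GL (Fin n) (ZMod p)),
    Function.Injective ρ → ¬ p ∣ Nat.card H →
    ∃ χ : H → ℂ, Cfsg.IsCharacter H χ ∧ Cfsg.charDegree χ = n ∧ ∀ g : H, χ g = χ 1 → g = 1

/-- Piece BIG: dimension at least three. -/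
def BigStmt : Prop :=
  ∀ (H : Type u) [Group H] [Finite H] (p n : ℕ) [Fact p.Prime] (ρ : H →* GL (Fin n) (ZMod p)),
    IsTransLin ρ → 5 ≤ p → 3 ≤ n → p ≤ Nat.card (ConjClasses H)

/-- The shapes of a finite group with a faithful character of degree two. -/
def TwoShape (H : Type u) [Group H] : Prop :=
  (∃ A : Subgroup H, IsMulCommutative A ∧ A.index ≤ 2) ∨
    (((Subgroup.center H).index = 12 ∨ (Subgroup.center H).index = 24 ∨
        (Subgroup.center H).index = 60) ∧
      (∀ g z : H, z ∈ Subgroup.center H → IsConj g (g * z) → z * z = 1) ∧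
      ∀ A : Subgroup H, A.Normal → IsMulCommutative A → A ≤ Subgroup.center H)

/-- Piece SHAPE: structure from a faithful character of degree two. -/
def ShapeStmt : Prop :=
  ∀ (H : Type u) [Group H] [Finite H] (χ : H → ℂ), Cfsg.IsCharacter H χ →
    Cfsg.charDegree χ = 2 → (∀ g : H, χ g = χ 1 → g = 1) → TwoShape H

/-- Piece TWO: dimension two. -/
def TwoStmt : Prop :=
  ∀ (H : Type u) [Group H] [Finite H] (p : ℕ) [Fact p.Prime] (ρ : H →* GL (Fin 2) (ZMod p)),
    IsTransLin ρ → 5 ≤ p → TwoShape H →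
      p ≤ Nat.card (ConjClasses H) ∨
        (p = 11 ∧ Nat.card H = 120 ∧ Nat.card (ConjClasses H) = 9 ∧
          Nonempty (H ≃* Matrix.SpecialLinearGroup (Fin 2) (ZMod 5)))

/-- The conclusion for a linear group. -/
def CoreStmt : Prop :=
  ∀ (H : Type u) [Group H] [Finite H] (p n : ℕ) [Fact p.Prime] (ρ : H →* GL (Fin n) (ZMod p)),
    IsTransLin ρ → 1 ≤ n →
      p ≤ Nat.card (ConjClasses H) ∨
        (n = 1 ∧ Nat.card H = p - 1 ∧ Nat.card (ConjClasses H) = p - 1) ∨
        (n = 2 ∧ p = 11 ∧ Nat.card H = 120 ∧ Nat.card (ConjClasses H) = 9 ∧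
          Nonempty (H ≃* Matrix.SpecialLinearGroup (Fin 2) (ZMod 5)))

/-- What the group-theoretic reduction delivers for a group with trivial `p`-prime core. -/
def ReduceStmt : Prop :=
  ∀ (G : Type u) [Group G] [Finite G] (p : ℕ) [Fact p.Prime],
    Cfsg.IsPSolvable p G → p ∣ Nat.card G →
    (∀ x y : G, x ≠ 1 → y ≠ 1 → (∃ k : ℕ, orderOf x = p ^ k) → (∃ k : ℕ, orderOf y = p ^ k) →
      IsConj x y) →
    Cfsg.pPrimeCore p G = ⊥ →
    ∃ (n : ℕ) (H : Subgroup G) (ρ : ↥H →* GL (Fin n) (ZMod p)),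
      1 ≤ n ∧ IsTransLin ρ ∧ Nat.card G = p ^ n * Nat.card H ∧
      regCount G p = Nat.card (ConjClasses ↥H) ∧
      (Nat.card H = p ^ n - 1 → 2 ≤ Nat.card H → Cfsg.IsFrobeniusComplement H) ∧
      (n = 1 → Nat.card H = p - 1 → Nonempty (G ≃* ↥(Cfsg.affineGroup (ZMod p))))

/-- Piece EXTRA: a nontrivial `p`-prime core over the exceptional group gives two more classes. -/
def ExtraStmt : Prop :=
  ∀ (G : Type u) [Group G] [Finite G] (N : Subgroup G) [N.Normal],
    N ≠ ⊥ → ¬ 11 ∣ Nat.card N → Nat.card (G ⧸ N) = 121 * 120 →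
    (∃ H : Subgroup (G ⧸ N), Cfsg.IsFrobeniusComplement H ∧
      Nonempty (↥H ≃* Matrix.SpecialLinearGroup (Fin 2) (ZMod 5))) →
    regCount (G ⧸ N) 11 + 2 ≤ regCount G 11

end Cfsg.Agent.OneClass35
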