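import Cfsg.Agent.OneClass35.Count

/-!
# S4878, piece EXTRA: a nontrivial core over the exceptional group gives two more classes

`G/N` has order `121 * 120` and a Frobenius complement isomorphic to `SL(2,5)`.  If `N` has only
one nontrivial class then it is an elementary abelian `r`-group; a fibre over a nontrivial regular
class splits unless every regular element of order prime to `r` acts without fixed point, and a
fibre over an `r`-element `h` splits unless `r * orderOf h` divides the order of its centraliser.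
-/

set_option autoImplicit false
set_option linter.unusedSectionVars false

open scoped Pointwise

namespace Cfsg.Agent.OneClass35

universe u

namespace Extra

variable {G : Type u} [Group G] [Finite G]

/-- A surjection missing two points still surjecting. -/
theorem card_add_two_le {A B : Type*} [Finite A] (f : A → B) (hf : Function.Surjective f)
    (b d : A) (hbd : b ≠ d) (hb : ∃ a, a ≠ b ∧ a ≠ d ∧ f a = f b)
    (hd : ∃ a, a ≠ b ∧ a ≠ d ∧ f a = f d) : Nat.card B + 2 ≤ Nat.card A := by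
  have hs : Function.Surjective (fun a : ↥(({b, d} : Set A)ᶜ) => f a.1) := by
    intro y
    obtain ⟨a, rfl⟩ := hf y
    by_cases h1 : a = b
    · obtain ⟨a', h2, h3, h4⟩ := hb
      exact ⟨⟨a', by simp [h2, h3]⟩, h4.trans (congrArg f h1.symm)⟩
    by_cases h5 : a = d
    · obtain ⟨a', h2, h3, h4⟩ := hd
      exact ⟨⟨a', by simp [h2, h3]⟩, h4.trans (congrArg f h5.symm)⟩
    exact ⟨⟨a, by simp [h1, h5]⟩, rfl⟩
  have h := Nat.card_le_card_of_surjective _ hs
  have h2 := Set.ncard_compl_add_ncard ({b, d} : Set A)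
  rw [Set.ncard_pair hbd] at h2
  rw [Nat.card_coe_set_eq] at h
  omega

/-- Two pairs of classes with equal images give two extra classes. -/
theorem regCount_add_two_le {p : ℕ} [hp : Fact p.Prime] (N : Subgroup G) [hNn : N.Normal]
    (hN : ¬ p ∣ Nat.card N) (b d a₁ a₂ : G) (hb : ¬ p ∣ orderOf b) (hd : ¬ p ∣ orderOf d)
    (ha₁ : ¬ p ∣ orderOf a₁) (ha₂ : ¬ p ∣ orderOf a₂) (hbd : ¬ IsConj b d)
    (h1b : ¬ IsConj a₁ b) (h1d : ¬ IsConj a₁ d) (h2b : ¬ IsConj a₂ b) (h2d : ¬ IsConj a₂ d)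
    (e1 : IsConj (QuotientGroup.mk' N a₁) (QuotientGroup.mk' N b))
    (e2 : IsConj (QuotientGroup.mk' N a₂) (QuotientGroup.mk' N d)) :
    regCount (G ⧸ N) p + 2 ≤ regCount G p := by
  let f : {c : ConjClasses G // ∃ g : G, ConjClasses.mk g = c ∧ ¬ p ∣ orderOf g} →
      {c : ConjClasses (G ⧸ N) // ∃ g : G ⧸ N, ConjClasses.mk g = c ∧ ¬ p ∣ orderOf g} := fun c =>
    ⟨ConjClasses.map (QuotientGroup.mk' N) c.1, by
      obtain ⟨g, hg, hr⟩ := c.2
      refine ⟨QuotientGroup.mk' N g, by rw [← hg]; rfl, fun h => hr ?_⟩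
      exact h.trans (orderOf_map_dvd _ g)⟩
  have hf : Function.Surjective f := by
    rintro ⟨c, g, rfl, hg⟩
    obtain ⟨a, rfl⟩ := QuotientGroup.mk'_surjective N g
    exact ⟨⟨ConjClasses.mk a, a, rfl, Count.not_dvd_orderOf_of_quotient N hN a hg⟩, rfl⟩
  have hne : ∀ (x y : G) (hx : ¬ p ∣ orderOf x) (hy : ¬ p ∣ orderOf y), ¬ IsConj x y →
      (⟨ConjClasses.mk x, x, rfl, hx⟩ :
        {c : ConjClasses G // ∃ g : G, ConjClasses.mk g = c ∧ ¬ p ∣ orderOf g}) ≠
        ⟨ConjClasses.mk y, y, rfl, hy⟩ := fun x y hx hy h h' =>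
    h (ConjClasses.mk_eq_mk_iff_isConj.mp (congrArg Subtype.val h'))
  exact card_add_two_le f hf ⟨ConjClasses.mk b, b, rfl, hb⟩ ⟨ConjClasses.mk d, d, rfl, hd⟩
    (hne b d hb hd hbd)
    ⟨⟨ConjClasses.mk a₁, a₁, rfl, ha₁⟩, hne a₁ b ha₁ hb h1b, hne a₁ d ha₁ hd h1d,
      Subtype.ext (ConjClasses.mk_eq_mk_iff_isConj.mpr e1)⟩
    ⟨⟨ConjClasses.mk a₂, a₂, rfl, ha₂⟩, hne a₂ b ha₂ hb h2b, hne a₂ d ha₂ hd h2d,
      Subtype.ext (ConjClasses.mk_eq_mk_iff_isConj.mpr e2)⟩

/-- A split fibre over a nontrivial class, besides the kernel. -/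
theorem split_fibre {p : ℕ} [hp : Fact p.Prime] (N : Subgroup G) [hNn : N.Normal]
    (hN : ¬ p ∣ Nat.card N) {n₀ : G} (hn₀ : n₀ ∈ N) (hn₀1 : n₀ ≠ 1) (g g' : G)
    (hg : ¬ p ∣ orderOf (QuotientGroup.mk' N g))
    (hmk : QuotientGroup.mk' N g' = QuotientGroup.mk' N g) (hne : QuotientGroup.mk' N g ≠ 1)
    (hnc : ¬ IsConj g g') : regCount (G ⧸ N) p + 2 ≤ regCount G p := by
  have hmk0 : QuotientGroup.mk' N n₀ = 1 := (QuotientGroup.eq_one_iff n₀).mpr hn₀
  have hker : ∀ a b : G, IsConj a b → QuotientGroup.mk' N a = 1 → QuotientGroup.mk' N b = 1 := by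
    intro a b hab ha
    have h := (QuotientGroup.mk' N).map_isConj hab
    rw [ha] at h
    exact isConj_one_right.mp h
  refine regCount_add_two_le N hN n₀ g' 1 g ?_ ?_ ?_ ?_ ?_ ?_ ?_ ?_ hnc ?_ ?_
  · exact fun h => hN (h.trans (Subgroup.orderOf_dvd_natCard N hn₀))
  · exact Count.not_dvd_orderOf_of_quotient N hN g' (by rw [hmk]; exact hg)
  · rw [orderOf_one]; exact fun h => hp.out.ne_one (Nat.dvd_one.mp h)
  · exact Count.not_dvd_orderOf_of_quotient N hN g hg
  · exact fun h => hne (hmk ▸ hker _ _ h hmk0)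
  · exact fun h => hn₀1 (isConj_one_right.mp h)
  · exact fun h => hne (hmk ▸ hker _ _ h (map_one _))
  · exact fun h => hne (hker _ _ h.symm hmk0)
  · rw [map_one, hmk0]
  · rw [hmk]

theorem ncard_conj_mul (g : G) :
    {x : G | IsConj g x}.ncard * Nat.card ↥(Subgroup.centralizer ({g} : Set G)) = Nat.card G := by
  have horb : MulAction.orbit (ConjAct G) g = {x : G | IsConj g x} := by
    ext b
    rw [ConjAct.mem_orbit_conjAct]
    exact ⟨IsConj.symm, IsConj.symm⟩
  rw [← horb, Subgroup.nat_card_centralizer_nat_card_stabilizer,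
    ← MulAction.index_stabilizer (G := ConjAct G) (x := g), Subgroup.index_mul_card]
  rfl

theorem orderOf_eq_of_isConj {a b : G} (h : IsConj a b) : orderOf a = orderOf b := by
  obtain ⟨c, rfl⟩ := isConj_iff.mp h
  exact (MulEquiv.orderOf_eq (MulAut.conj c) a).symm

/-- The standard data: an elementary abelian normal subgroup with one nontrivial class. -/
structure Data (N : Subgroup G) (r : ℕ) : Prop where
  prime : r.Prime
  ne : r ≠ 11
  pow : ∀ a ∈ N, a ^ r = 1
  comm : ∀ a ∈ N, ∀ b ∈ N, a * b = b * a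
  conj : ∀ a ∈ N, ∀ b ∈ N, a ≠ 1 → b ≠ 1 → IsConj a b

/-- A regular element of order prime to `r` with a fixed point splits its fibre. -/
theorem fixed_lift {N : Subgroup G} [hNn : N.Normal] {r : ℕ} (hD : Data N r)
    (hN : ¬ 11 ∣ Nat.card N) (g n : G) (hn : n ∈ N) (hn1 : n ≠ 1) (hgn : Commute g n)
    (hne : QuotientGroup.mk' N g ≠ 1) (h11 : ¬ 11 ∣ orderOf (QuotientGroup.mk' N g))
    (hr : ¬ r ∣ orderOf (QuotientGroup.mk' N g)) :
    regCount (G ⧸ N) 11 + 2 ≤ regCount G 11 := by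
  haveI : Fact (Nat.Prime 11) := ⟨by norm_num⟩
  set m := orderOf (QuotientGroup.mk' N g) with hm
  have hw : g ^ m ∈ N := by
    rw [← QuotientGroup.eq_one_iff]
    show QuotientGroup.mk' N (g ^ m) = 1
    rw [map_pow, hm, pow_orderOf_eq_one]
  have hcop : m.Coprime (orderOf (g ^ m)) := by
    have h1 : m.Coprime r := (hD.prime.coprime_iff_not_dvd.mpr hr).symm
    exact h1.coprime_dvd_right (orderOf_dvd_of_pow_eq_one (hD.pow _ hw))
  obtain ⟨k, hk⟩ := exists_pow_eq_self_of_coprime hcop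
  set w := ((g ^ m) ^ k)⁻¹ with hwdef
  have hwN : w ∈ N := N.inv_mem (N.pow_mem hw k)
  have hgw : Commute g w := (((Commute.refl g).pow_right m).pow_right k).inv_right
  set g' := g * w with hg'
  have hg'm : g' ^ m = 1 := by
    rw [hg', hgw.mul_pow, hwdef, inv_pow, ← pow_mul (g ^ m) k m, mul_comm k m, pow_mul, hk,
      mul_inv_cancel]
  have hg'n : Commute g' n := Commute.mul_left hgn (hD.comm w hwN n hn)
  have hmkw : QuotientGroup.mk' N g' = QuotientGroup.mk' N g := by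
    rw [hg', map_mul, show QuotientGroup.mk' N w = 1 from (QuotientGroup.eq_one_iff w).mpr hwN,
      mul_one]
  refine split_fibre N hN hn hn1 g' (g' * n) (by rw [hmkw]; exact h11) ?_ (by rw [hmkw]; exact hne)
    ?_
  · rw [map_mul, show QuotientGroup.mk' N n = 1 from (QuotientGroup.eq_one_iff n).mpr hn, mul_one]
  · intro hc
    have h1 : (g' * n) ^ m = 1 := by
      apply orderOf_dvd_iff_pow_eq_one.mp
      rw [← orderOf_eq_of_isConj hc]
      exact orderOf_dvd_of_pow_eq_one hg'm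
    rw [hg'n.mul_pow, hg'm, one_mul] at h1
    haveI := Fact.mk hD.prime
    have h2 : orderOf n = r := orderOf_eq_prime (hD.pow n hn) hn1
    exact hr (h2 ▸ orderOf_dvd_of_pow_eq_one h1)

/-- An `r`-element whose centraliser is small splits its fibre. -/
theorem element_lift {N : Subgroup G} [hNn : N.Normal] {r : ℕ} (hD : Data N r) (hN1 : N ≠ ⊥)
    (hN : ¬ 11 ∣ Nat.card N) (h : G ⧸ N) (hh : h ≠ 1) {j : ℕ} (hj : orderOf h = r ^ j)
    (hsmall : ¬ r * orderOf h ∣ Nat.card ↥(Subgroup.centralizer ({h} : Set (G ⧸ N)))) :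
    regCount (G ⧸ N) 11 + 2 ≤ regCount G 11 := by
  haveI : Fact (Nat.Prime 11) := ⟨by norm_num⟩
  haveI := Fact.mk hD.prime
  obtain ⟨g, hg, i, hi⟩ := Count.exists_pElement_preimage N h hj
  have h11 : ¬ 11 ∣ orderOf (QuotientGroup.mk' N g) := by
    rw [hg, hj]
    intro h'
    exact hD.ne ((Nat.prime_dvd_prime_iff_eq (by norm_num) hD.prime).mp
      (Nat.Prime.dvd_of_dvd_pow (by norm_num) h')).symm
  -- a fixed point of `g` on `N`
  letI : MulAction ↥(Subgroup.zpowers g) ↥N :=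
    MulAction.compHom ↥N ((MulAut.conjNormal (H := N)).comp (Subgroup.zpowers g).subtype)
  have hPg : IsPGroup r ↥(Subgroup.zpowers g) := IsPGroup.of_card (by rw [Nat.card_zpowers, hi])
  have hrN : r ∣ Nat.card N := by
    obtain ⟨a, ha, ha1⟩ := Subgroup.bot_or_exists_ne_one N |>.resolve_left hN1
    have h2 : orderOf a = r := orderOf_eq_prime (hD.pow a ha) ha1
    exact h2 ▸ Subgroup.orderOf_dvd_natCard N ha
  have hone : (1 : ↥N) ∈ MulAction.fixedPoints ↥(Subgroup.zpowers g) ↥N := fun x =>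
    map_one (MulAut.conjNormal (H := N) (x : G))
  have hfix : r ∣ Nat.card (MulAction.fixedPoints ↥(Subgroup.zpowers g) ↥N) :=
    (Nat.modEq_zero_iff_dvd.mp
      ((hPg.card_modEq_card_fixedPoints ↥N).symm.trans (Nat.modEq_zero_iff_dvd.mpr hrN)))
  haveI : Nonempty (MulAction.fixedPoints ↥(Subgroup.zpowers g) ↥N) := ⟨⟨1, hone⟩⟩
  haveI : Nontrivial (MulAction.fixedPoints ↥(Subgroup.zpowers g) ↥N) :=
    Finite.one_lt_card_iff_nontrivial.mp
      (lt_of_lt_of_le hD.prime.one_lt (Nat.le_of_dvd Nat.card_pos hfix))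
  obtain ⟨⟨n, hn⟩, hn1⟩ := exists_ne (⟨1, hone⟩ : MulAction.fixedPoints ↥(Subgroup.zpowers g) ↥N)
  have hn1' : (n : G) ≠ 1 := fun h' => hn1 (Subtype.ext (Subtype.ext h'))
  have hgn : g * (n : G) * g⁻¹ = n := by
    have h' := congrArg Subtype.val (hn ⟨g, Subgroup.mem_zpowers g⟩)
    exact h'
  by_contra hcon
  have hall : ∀ x : G, QuotientGroup.mk' N x = h → IsConj g x := fun x hx => by
    by_contra hc
    exact hcon (split_fibre N hN n.2 hn1' g x h11 (hx.trans hg.symm) (hg.symm ▸ hh) hc)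
  have hset : {x : G | IsConj g x} =
      (QuotientGroup.mk : G → G ⧸ N) ⁻¹' {y : G ⧸ N | IsConj h y} := by
    ext x
    constructor
    · intro hx
      have := (QuotientGroup.mk' N).map_isConj hx
      rwa [hg] at this
    · intro hx
      obtain ⟨c, hc⟩ := isConj_iff.mp (show IsConj h (QuotientGroup.mk' N x) from hx)
      obtain ⟨c, rfl⟩ := QuotientGroup.mk'_surjective N c
      have h2 : QuotientGroup.mk' N (c⁻¹ * x * c) = h := by
        rw [map_mul, map_mul, map_inv, ← hc]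
        group
      refine (hall _ h2).trans (isConj_iff.mpr ⟨c, ?_⟩)
      group
  have hcl : {x : G | IsConj g x}.ncard = Nat.card N * {y : G ⧸ N | IsConj h y}.ncard := by
    rw [hset, ← Nat.card_coe_set_eq, ← Nat.card_coe_set_eq, ← Nat.card_prod]
    exact Nat.card_congr (QuotientGroup.preimageMkEquivSubgroupProdSet N _)
  have hCC : Nat.card ↥(Subgroup.centralizer ({g} : Set G)) =
      Nat.card ↥(Subgroup.centralizer ({h} : Set (G ⧸ N))) := by
    have h1 := ncard_conj_mul g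
    have h2 := ncard_conj_mul h
    rw [Subgroup.card_eq_card_quotient_mul_card_subgroup N, ← h2, hcl] at h1
    have hpos : 0 < Nat.card N * {y : G ⧸ N | IsConj h y}.ncard :=
      Nat.mul_pos Nat.card_pos ((Set.ncard_pos (Set.toFinite _)).mpr ⟨h, IsConj.refl h⟩)
    apply Nat.eq_of_mul_eq_mul_left hpos
    rw [h1]
    ring
  apply hsmall
  rw [← hCC]
  set C := Subgroup.centralizer ({g} : Set G) with hC
  set φ := (QuotientGroup.mk' N).comp C.subtype with hφ
  have hnC : (n : G) ∈ C :=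
    Subgroup.mem_centralizer_singleton_iff.mpr (mul_inv_eq_iff_eq_mul.mp hgn).symm
  have hk : r ∣ Nat.card φ.ker := by
    have hmem : (⟨n, hnC⟩ : C) ∈ φ.ker := (QuotientGroup.eq_one_iff (n : G)).mpr n.2
    have h3 := Subgroup.orderOf_dvd_natCard φ.ker hmem
    rwa [Subgroup.orderOf_mk, orderOf_eq_prime (hD.pow _ n.2) hn1'] at h3
  have hi' : orderOf h ∣ Nat.card φ.range :=
    Subgroup.orderOf_dvd_natCard φ.range ⟨⟨g, Subgroup.mem_centralizer_singleton_iff.mpr rfl⟩, hg⟩
  rw [Subgroup.card_eq_card_quotient_mul_card_subgroup φ.ker,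
    Nat.card_congr (QuotientGroup.quotientKerEquivRange φ).toEquiv, mul_comm r]
  exact Nat.mul_dvd_mul hi' hk

open Matrix in
/-- The element of order four of `SL(2,5)` used below. -/
def jEl : Matrix.SpecialLinearGroup (Fin 2) (ZMod 5) := ⟨!![0, 4; 1, 0], by decide⟩

theorem orderOf_jEl : orderOf jEl = 4 := by
  haveI : Fact (Nat.Prime 2) := ⟨Nat.prime_two⟩
  exact orderOf_eq_prime_pow (p := 2) (n := 1) (by decide) (by decide)

theorem card_centralizer_jEl :
    Nat.card ↥(Subgroup.centralizer ({jEl} : Set (Matrix.SpecialLinearGroup (Fin 2) (ZMod 5)))) ≤ 4 := by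
  let sol := {q : ZMod 5 × ZMod 5 // q.1 * q.1 + q.2 * q.2 = 1}
  have key : ∀ x : Matrix.SpecialLinearGroup (Fin 2) (ZMod 5),
      x ∈ Subgroup.centralizer
        ({jEl} : Set (Matrix.SpecialLinearGroup (Fin 2) (ZMod 5))) →
      x.1 1 1 = x.1 0 0 ∧ x.1 0 1 = -x.1 1 0 ∧ x.1 0 0 * x.1 0 0 + x.1 1 0 * x.1 1 0 = 1 := by
    intro x hx
    have h' : x * jEl = jEl * x := Subgroup.mem_centralizer_singleton_iff.mp hx
    have h : x.1 * !![(0 : ZMod 5), 4; 1, 0] = !![(0 : ZMod 5), 4; 1, 0] * x.1 :=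
      congrArg (fun y : Matrix.SpecialLinearGroup (Fin 2) (ZMod 5) => y.1) h'
    have h00 := congrFun (congrFun h 0) 0
    have h10 := congrFun (congrFun h 1) 0
    have hd := x.2
    rw [Matrix.det_fin_two] at hd
    simp [Matrix.mul_apply, Fin.sum_univ_two] at h00 h10
    have e1 : x.1 0 1 = -x.1 1 0 := by
      linear_combination h00 + x.1 1 0 * (by decide : (5 : ZMod 5) = 0)
    refine ⟨h10, e1, ?_⟩
    rw [h10, e1] at hd
    linear_combination hd
  have hinj : Function.Injective (fun x : ↥(Subgroup.centralizer ({jEl} : Set (Matrix.SpecialLinearGroup (Fin 2) (ZMod 5)))) =>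
      (⟨(x.1.1 0 0, x.1.1 1 0), (key x.1 x.2).2.2⟩ : sol)) := by
    intro x y hxy
    have h := congrArg Subtype.val hxy
    simp only [Prod.mk.injEq] at h
    obtain ⟨a1, a2, -⟩ := key x.1 x.2
    obtain ⟨b1, b2, -⟩ := key y.1 y.2
    apply Subtype.ext
    apply Subtype.ext
    ext i k
    fin_cases i <;> fin_cases k
    · exact h.1
    · show x.1.1 0 1 = y.1.1 0 1
      rw [a2, b2, h.2]
    · exact h.2
    · show x.1.1 1 1 = y.1.1 1 1
      rw [a1, b1, h.1]
  have hcard : Nat.card sol = 4 := by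
    rw [Nat.card_eq_fintype_card]
    decide
  exact hcard ▸ Nat.card_le_card_of_injective _ hinj

/-- The central involution of `SL(2,5)`. -/
def zEl : Matrix.SpecialLinearGroup (Fin 2) (ZMod 5) := ⟨!![4, 0; 0, 4], by decide⟩

theorem exists_central_involution :
    ∃ z : Matrix.SpecialLinearGroup (Fin 2) (ZMod 5), z ≠ 1 ∧ z * z = 1 ∧ ∀ x, x * z = z * x := by
  refine ⟨zEl, by decide, by decide, fun x => ?_⟩
  apply Subtype.ext
  ext i k
  show (x.1 * !![(4 : ZMod 5), 0; 0, 4]) i k = (!![(4 : ZMod 5), 0; 0, 4] * x.1) i k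
  fin_cases i <;> fin_cases k <;>
    simp [Matrix.mul_apply, Fin.sum_univ_two] <;> ring

theorem isPGroup_of_regular_trivial {Q : Type*} [Group Q] [Finite Q] {p : ℕ} [hp : Fact p.Prime]
    (S : Subgroup Q) (h : ∀ x ∈ S, ¬ p ∣ orderOf x → x = 1) : IsPGroup p ↥S := by
  rintro ⟨x, hx⟩
  obtain ⟨a, m, hm, hxm⟩ := Nat.exists_eq_pow_mul_and_not_dvd (orderOf_pos x).ne' p hp.out.ne_one
  refine ⟨a, Subtype.ext ?_⟩
  rw [SubgroupClass.coe_pow, OneMemClass.coe_one]
  refine h _ (S.pow_mem hx (p ^ a)) fun hdvd => hm ?_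
  refine hdvd.trans (orderOf_dvd_of_pow_eq_one ?_)
  rw [← pow_mul, ← hxm, pow_orderOf_eq_one]

theorem centralizer_le_of_frobenius {Q : Type*} [Group Q] {H : Subgroup Q}
    (hH : Cfsg.IsFrobeniusComplement H) {h x : Q} (hh : h ∈ H) (h1 : h ≠ 1)
    (hx : x * h = h * x) : x ∈ H := by
  by_contra hxH
  have h2 : h ∈ H ⊓ MulAut.conj x • H := by
    refine ⟨hh, ?_⟩
    show h ∈ MulAut.conj x • H
    rw [Subgroup.mem_pointwise_smul_iff_inv_smul_mem]
    have : (MulAut.conj x)⁻¹ • h = h := by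
      show (MulAut.conj x).symm h = h
      rw [MulAut.conj_symm_apply, mul_assoc, ← hx, inv_mul_cancel_left]
    rw [this]
    exact hh
  rw [hH.2.2 x hxH] at h2
  exact h1 h2

end Extra

open Extra in
theorem extra : ExtraStmt.{u} := by
  intro G _ _ N _ hN1 hN hcardQ hH0
  obtain ⟨H0, hFrob, ⟨e⟩⟩ := hH0
  haveI : Fact (Nat.Prime 11) := ⟨by norm_num⟩
  haveI : Nontrivial ↥N := (Subgroup.nontrivial_iff_ne_bot N).mpr hN1
  have hregN : ∀ a ∈ N, ¬ 11 ∣ orderOf a := fun a ha h =>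
    hN (h.trans (Subgroup.orderOf_dvd_natCard N ha))
  -- two classes in the kernel already suffice
  by_cases hconjN : ∀ a ∈ N, ∀ b ∈ N, a ≠ 1 → b ≠ 1 → IsConj a b
  swap
  · push Not at hconjN
    obtain ⟨a, ha, b, hb, ha1, hb1, hab⟩ := hconjN
    have h1 : ¬ 11 ∣ orderOf (1 : G) := by rw [orderOf_one]; norm_num
    refine regCount_add_two_le N hN a b 1 1 (hregN a ha) (hregN b hb) h1 h1 hab ?_ ?_ ?_ ?_ ?_ ?_
    · exact fun h => ha1 (isConj_one_right.mp h)
    · exact fun h => hb1 (isConj_one_right.mp h)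
    · exact fun h => ha1 (isConj_one_right.mp h)
    · exact fun h => hb1 (isConj_one_right.mp h)
    · rw [map_one, show QuotientGroup.mk' N a = 1 from (QuotientGroup.eq_one_iff a).mpr ha]
    · rw [map_one, show QuotientGroup.mk' N b = 1 from (QuotientGroup.eq_one_iff b).mpr hb]
  -- the elementary abelian structure
  set r := (Nat.card N).minFac with hrdef
  have hrp : r.Prime := Nat.minFac_prime (by
    have := Finite.one_lt_card (α := ↥N); omega)
  haveI := Fact.mk hrp
  obtain ⟨n₀, hn₀⟩ := exists_prime_orderOf_dvd_card' r (Nat.minFac_dvd (Nat.card N))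
  have hn₀' : orderOf (n₀ : G) = r := by rw [Subgroup.orderOf_coe]; exact hn₀
  have hn₀1 : (n₀ : G) ≠ 1 := fun h => hrp.ne_one (by rw [← hn₀', h, orderOf_one])
  have hpow : ∀ a ∈ N, a ^ r = 1 := fun a ha => by
    by_cases ha1 : a = 1
    · rw [ha1, one_pow]
    · rw [← hn₀', orderOf_eq_of_isConj (hconjN _ n₀.2 a ha hn₀1 ha1)]
      exact pow_orderOf_eq_one a
  have hPN : IsPGroup r ↥N := fun x => ⟨1, Subtype.ext (by simpa using hpow x x.2)⟩
  haveI := hPN.center_nontrivial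
  obtain ⟨⟨z₀, hz₀⟩, hz₀1⟩ := exists_ne (1 : Subgroup.center ↥N)
  have hz₀1' : (z₀ : G) ≠ 1 := fun h => hz₀1 (Subtype.ext (Subtype.ext h))
  have hcomm : ∀ a ∈ N, ∀ b ∈ N, a * b = b * a := by
    intro a ha b hb
    by_cases ha1 : a = 1
    · rw [ha1, one_mul, mul_one]
    obtain ⟨c, rfl⟩ := isConj_iff.mp (hconjN _ z₀.2 a ha hz₀1' ha1)
    have h2 : c⁻¹ * b * c⁻¹⁻¹ ∈ N := Subgroup.Normal.conj_mem ‹N.Normal› b hb c⁻¹
    have h3 : (c⁻¹ * b * c⁻¹⁻¹) * (z₀ : G) = (z₀ : G) * (c⁻¹ * b * c⁻¹⁻¹) :=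
      congrArg Subtype.val (Subgroup.mem_center_iff.mp hz₀ ⟨_, h2⟩)
    calc c * (z₀ : G) * c⁻¹ * b = c * ((z₀ : G) * (c⁻¹ * b * c⁻¹⁻¹)) * c⁻¹ := by group
      _ = c * ((c⁻¹ * b * c⁻¹⁻¹) * (z₀ : G)) * c⁻¹ := by rw [h3]
      _ = b * (c * (z₀ : G) * c⁻¹) := by group
  have hr11 : r ≠ 11 := fun h => hN (h ▸ Nat.minFac_dvd _)
  have hD : Data N r := ⟨hrp, hr11, hpow, hcomm, hconjN⟩
  have hQcard : Nat.card (G ⧸ N) = 14520 := by rw [hcardQ]
  have hH0card : Nat.card H0 = 120 := by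
    rw [Nat.card_congr e.toEquiv, Nat.card_eq_fintype_card]
    decide +kernel
  -- `r = 3, 5`
  by_cases hr35 : r = 3 ∨ r = 5
  · have hdvd : r ∣ Nat.card (G ⧸ N) := by rcases hr35 with h | h <;> rw [h, hQcard] <;> norm_num
    obtain ⟨h, hh⟩ := exists_prime_orderOf_dvd_card' r hdvd
    refine element_lift hD hN1 hN h (fun h' => hrp.ne_one (by rw [← hh, h', orderOf_one]))
      (j := 1) (by rw [hh, pow_one]) ?_
    rw [hh]
    intro h'
    have h'' := h'.trans (Subgroup.card_subgroup_dvd_card _)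
    rw [hQcard] at h''
    rcases hr35 with h | h <;> rw [h] at h'' <;> norm_num at h''
  -- `r = 2`
  by_cases hr2 : r = 2
  · set h : G ⧸ N := ((e.symm jEl : ↥H0) : G ⧸ N) with hdef
    have ho : orderOf h = 4 := by rw [hdef, Subgroup.orderOf_coe, MulEquiv.orderOf_eq, orderOf_jEl]
    have hne : h ≠ 1 := fun h' => by rw [h', orderOf_one] at ho; omega
    refine element_lift hD hN1 hN h hne (j := 2) (by rw [ho, hr2]; rfl) ?_
    rw [ho, hr2]
    intro h'
    have hinj : Function.Injective (fun x : ↥(Subgroup.centralizer ({h} : Set (G ⧸ N))) =>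
        (⟨e ⟨x.1, centralizer_le_of_frobenius hFrob (SetLike.coe_mem _) hne
            (Subgroup.mem_centralizer_singleton_iff.mp x.2)⟩, by
          apply Subgroup.mem_centralizer_singleton_iff.mpr
          apply e.symm.injective
          rw [map_mul, map_mul, e.symm_apply_apply]
          exact Subtype.ext (Subgroup.mem_centralizer_singleton_iff.mp x.2)⟩ :
          ↥(Subgroup.centralizer ({jEl} : Set (Matrix.SpecialLinearGroup (Fin 2) (ZMod 5)))))) := by
      intro x y hxy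
      have := e.injective (congrArg Subtype.val hxy)
      exact Subtype.ext (congrArg (fun q : ↥H0 => (q : G ⧸ N)) this)
    have h1 := (Nat.card_le_card_of_injective _ hinj).trans card_centralizer_jEl
    have h2 := Nat.le_of_dvd Nat.card_pos h'
    omega
  -- the remaining primes are prime to the order of the quotient
  by_contra hcon
  have hrQ : ¬ r ∣ 14520 := by
    intro h
    have h' : r ∣ 2 ^ 3 * 3 * 5 * 11 ^ 2 := h
    have hle : r = 2 ∨ r = 3 ∨ r = 5 ∨ r = 11 := by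
      rcases hrp.dvd_mul.mp h' with h1 | h1
      · rcases hrp.dvd_mul.mp h1 with h2 | h2
        · rcases hrp.dvd_mul.mp h2 with h3 | h3
          · exact Or.inl ((Nat.prime_dvd_prime_iff_eq hrp Nat.prime_two).mp
              (hrp.dvd_of_dvd_pow h3))
          · exact Or.inr (Or.inl ((Nat.prime_dvd_prime_iff_eq hrp Nat.prime_three).mp h3))
        · exact Or.inr (Or.inr (Or.inl ((Nat.prime_dvd_prime_iff_eq hrp (by norm_num)).mp h2)))
      · exact Or.inr (Or.inr (Or.inr ((Nat.prime_dvd_prime_iff_eq hrp (by norm_num)).mp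
          (hrp.dvd_of_dvd_pow h1))))
    tauto
  have hfpf : ∀ g : G, ∀ n ∈ N, n ≠ 1 → Commute g n →
      ¬ 11 ∣ orderOf (QuotientGroup.mk' N g) → QuotientGroup.mk' N g = 1 := by
    intro g n hn hn1 hgn h11
    by_contra hne
    refine hcon (fixed_lift hD hN g n hn hn1 hgn hne h11 fun h => hrQ ?_)
    exact hQcard ▸ h.trans (orderOf_dvd_natCard _)
  -- the central involution of the complement inverts `N`
  obtain ⟨z', hz'1, hz'2, hz'c⟩ := exists_central_involution
  set z : G ⧸ N := ((e.symm z' : ↥H0) : G ⧸ N) with hzdef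
  have hz1 : z ≠ 1 := fun h => hz'1 (e.symm.map_eq_one_iff.mp (Subtype.ext h))
  have hz2 : z * z = 1 := by rw [hzdef, ← Subgroup.coe_mul, ← map_mul, hz'2, map_one]; rfl
  obtain ⟨w, hw⟩ := QuotientGroup.mk'_surjective N z
  have hw2 : w * w ∈ N := by
    rw [← QuotientGroup.eq_one_iff]
    show QuotientGroup.mk' N (w * w) = 1
    rw [map_mul, hw, hz2]
  have hz11 : ¬ 11 ∣ orderOf z := fun h => by
    have := h.trans (orderOf_dvd_of_pow_eq_one (show z ^ 2 = 1 by rw [pow_two, hz2]))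
    norm_num at this
  have hinv : ∀ a ∈ N, w * a * w⁻¹ = a⁻¹ := by
    intro a ha
    have hb : w * a * w⁻¹ ∈ N := Subgroup.Normal.conj_mem ‹N.Normal› a ha w
    have h2 : w * (w * a * w⁻¹) * w⁻¹ = a := by
      have h3 := hcomm _ hw2 a ha
      calc w * (w * a * w⁻¹) * w⁻¹ = (w * w * a) * (w * w)⁻¹ := by group
        _ = (a * (w * w)) * (w * w)⁻¹ := by rw [h3]
        _ = a := by group
    have hfix : Commute w (a * (w * a * w⁻¹)) := by
      show w * (a * (w * a * w⁻¹)) = a * (w * a * w⁻¹) * w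
      calc w * (a * (w * a * w⁻¹)) = (w * a * w⁻¹) * (w * (w * a * w⁻¹) * w⁻¹) * w := by group
        _ = (w * a * w⁻¹) * a * w := by rw [h2]
        _ = a * (w * a * w⁻¹) * w := by rw [hcomm _ hb a ha]
    by_contra hne
    refine hz1 ?_
    rw [← hw]
    refine hfpf w _ (N.mul_mem ha hb) (fun h => hne ?_) hfix (by rw [hw]; exact hz11)
    exact eq_inv_of_mul_eq_one_right h
  -- the kernel of the action
  set K := (Subgroup.centralizer (N : Set G)).map (QuotientGroup.mk' N) with hKdef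
  set S := (Subgroup.centralizer ({(n₀ : G)} : Set G)).map (QuotientGroup.mk' N) with hSdef
  have hK : ∀ x : G, QuotientGroup.mk' N (x * w * x⁻¹ * w⁻¹) ∈ K := by
    intro x
    refine Subgroup.mem_map_of_mem _ (Subgroup.mem_centralizer_iff.mpr fun a ha => ?_)
    have hinv2 : ∀ b ∈ N, w⁻¹ * b * w = b⁻¹ := fun b hb => by
      have h := hinv b⁻¹ (N.inv_mem hb)
      rw [inv_inv] at h
      calc w⁻¹ * b * w = w⁻¹ * (w * b⁻¹ * w⁻¹) * w := by rw [h]
        _ = b⁻¹ := by group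
    have h1 : w⁻¹ * a * w = a⁻¹ := hinv2 a ha
    have h2 : x⁻¹ * a⁻¹ * x⁻¹⁻¹ ∈ N :=
      Subgroup.Normal.conj_mem ‹N.Normal› _ (N.inv_mem ha) x⁻¹
    have h3 := hinv2 _ (Subgroup.Normal.conj_mem ‹N.Normal› a ha x⁻¹)
    calc a * (x * w * x⁻¹ * w⁻¹)
        = x * w * (w⁻¹ * (x⁻¹ * a * x⁻¹⁻¹) * w) * x⁻¹ * w⁻¹ := by group
      _ = x * w * (x⁻¹ * a * x⁻¹⁻¹)⁻¹ * x⁻¹ * w⁻¹ := by rw [h3]
      _ = x * w * x⁻¹ * a⁻¹ * w⁻¹ := by group
      _ = x * w * x⁻¹ * (w⁻¹ * a * w) * w⁻¹ := by rw [h1]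
      _ = x * w * x⁻¹ * w⁻¹ * a := by group
  have hS11 : IsPGroup 11 ↥S := isPGroup_of_regular_trivial S fun q hq h11 => by
    obtain ⟨c, hc, rfl⟩ := Subgroup.mem_map.mp hq
    exact hfpf c n₀ n₀.2 hn₀1 (Subgroup.mem_centralizer_singleton_iff.mp hc) h11
  have hKS : K ≤ S := Subgroup.map_mono (Subgroup.centralizer_le (by
    intro x hx; rw [Set.mem_singleton_iff.mp hx]; exact n₀.2))
  have hidx : H0.index = 121 := by
    have := H0.card_mul_index
    rw [hH0card, hQcard] at this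
    omega
  have hle : 121 ≤ Nat.card S := by
    let f : (G ⧸ N) ⧸ H0 → ↥S := fun q =>
      ⟨q.out * z * q.out⁻¹ * z⁻¹, hKS (by
        obtain ⟨x, hx⟩ := QuotientGroup.mk'_surjective N q.out
        rw [← hx, ← hw, ← map_inv, ← map_inv, ← map_mul, ← map_mul, ← map_mul]
        exact hK x)⟩
    have hf : Function.Injective f := by
      intro q q' h
      have h' : q.out * z * q.out⁻¹ = q'.out * z * q'.out⁻¹ :=
        mul_right_cancel (congrArg Subtype.val h)
      have h'' : q.out⁻¹ * q'.out ∈ H0 := by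
        refine centralizer_le_of_frobenius hFrob (SetLike.coe_mem (e.symm z')) hz1 ?_
        calc q.out⁻¹ * q'.out * z = q.out⁻¹ * (q'.out * z * q'.out⁻¹) * q'.out := by group
          _ = q.out⁻¹ * (q.out * z * q.out⁻¹) * q'.out := by rw [h']
          _ = z * (q.out⁻¹ * q'.out) := by group
      rw [← QuotientGroup.out_eq' q, ← QuotientGroup.out_eq' q']
      exact QuotientGroup.eq.mpr h''
    have h := Nat.card_le_card_of_injective f hf
    rw [show Nat.card ((G ⧸ N) ⧸ H0) = H0.index from rfl, hidx] at h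
    exact h
  have hScard : Nat.card S = 121 := by
    obtain ⟨a, ha⟩ := hS11.exists_card_eq
    have hd : 11 ^ a ∣ 14520 := hQcard ▸ ha ▸ Subgroup.card_subgroup_dvd_card S
    have ha2 : a ≤ 2 := by
      by_contra hlt
      have h3 : 11 ^ 3 ∣ 14520 := (pow_dvd_pow 11 (by omega)).trans hd
      norm_num at h3
    rw [ha] at hle ⊢
    interval_cases a <;> simp_all
  -- the orbit of `n₀`
  set C0 := Subgroup.centralizer ({(n₀ : G)} : Set G) with hC0
  have hNC : N ≤ C0 := fun a ha =>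
    Subgroup.mem_centralizer_singleton_iff.mpr (hcomm a ha _ n₀.2)
  have hC0card : Nat.card C0 = Nat.card N * 121 := by
    have h1 : Nat.card C0 = Nat.card ((QuotientGroup.mk' N).comp C0.subtype).ker *
        Nat.card ((QuotientGroup.mk' N).comp C0.subtype).range := by
      rw [Subgroup.card_eq_card_quotient_mul_card_subgroup
        ((QuotientGroup.mk' N).comp C0.subtype).ker,
        Nat.card_congr (QuotientGroup.quotientKerEquivRange _).toEquiv, mul_comm]
    rw [h1, MonoidHom.range_comp, Subgroup.range_subtype, ← hSdef, hScard]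
    congr 1
    rw [← MonoidHom.comap_ker, QuotientGroup.ker_mk']
    exact Nat.card_congr (Subgroup.subgroupOfEquivOfLe hNC).toEquiv
  have horb : {x : G | IsConj (n₀ : G) x} = (N : Set G) \ {1} := by
    ext x
    constructor
    · intro hx
      obtain ⟨c, rfl⟩ := isConj_iff.mp hx
      refine ⟨Subgroup.Normal.conj_mem ‹N.Normal› _ n₀.2 c, fun h => hn₀1 ?_⟩
      exact (MulAut.conj c).map_eq_one_iff.mp h
    · rintro ⟨hx, hx1⟩
      exact hconjN _ n₀.2 x hx hn₀1 hx1
  have hG := ncard_conj_mul (n₀ : G)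
  rw [← hC0, horb, hC0card, Set.ncard_sdiff_singleton_of_mem N.one_mem,
    Subgroup.card_eq_card_quotient_mul_card_subgroup N, hQcard, ← Nat.card_coe_set_eq] at hG
  have hG' : (Nat.card N - 1) * (Nat.card N * 121) = 14520 * Nat.card N := hG
  have hG'' : (Nat.card N - 1) * 121 = 14520 := by
    apply Nat.eq_of_mul_eq_mul_right (Nat.card_pos (α := ↥N))
    rw [← hG']
    ring
  exact hN ⟨11, by omega⟩

end Cfsg.Agent.OneClass35
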