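import Mathlib.GroupTheory.GroupAction.ConjAct
import Mathlib.GroupTheory.Index
import Mathlib.GroupTheory.Perm.Cycle.Type
import Mathlib.LinearAlgebra.Matrix.SpecialLinearGroup
import Mathlib.Data.ZMod.Basic
import Mathlib.Algebra.IsPrimePow
import Mathlib.Tactic.NormNum.Prime

/-!
# S4878, piece EXTRA: the semiregular case

A normal abelian `r`-subgroup `N` on which a group with quotient `11²:SL₂(5)` is transitive,
the `11'`-elements outside `N` fixing only `1`, does not exist: `|N| - 1` times the order of a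
point stabiliser in the quotient, an `11`-group, is `14520`, so `|N| ∈ {14521, 1321, 121}`.
-/

set_option autoImplicit false

namespace Cfsg.Agent.OneClass35.ExtraLines

variable {G : Type*} [Group G] [Finite G]

/-- An element whose image has order prime to `11` has order prime to `11`. -/
theorem not_dvd_orderOf (N : Subgroup G) [N.Normal] (hN11 : ¬ 11 ∣ Nat.card N) (g : G)
    (hg : ¬ 11 ∣ orderOf (g : G ⧸ N)) : ¬ 11 ∣ orderOf g := by
  intro hd
  have hmem : g ^ orderOf (g : G ⧸ N) ∈ N := by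
    rw [← QuotientGroup.eq_one_iff, QuotientGroup.mk_pow, pow_orderOf_eq_one]
  have h1 : (⟨_, hmem⟩ : N) ^ Nat.card N = 1 := pow_card_eq_one'
  have h2 : g ^ (orderOf (g : G ⧸ N) * Nat.card N) = 1 := by
    rw [pow_mul]; exact congrArg Subtype.val h1
  rcases (Nat.Prime.dvd_mul (by norm_num : Nat.Prime 11)).1
    (hd.trans (orderOf_dvd_of_pow_eq_one h2)) with h | h
  · exact hg h
  · exact hN11 h

/-- The fifteen divisors of the index leave only three sizes, none of which occurs. -/
theorem size_cases {r m s : ℕ} (hr : r.Prime) (hr11 : r ≠ 11) (hs : s ∣ 121)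
    (h : (r ^ m - 1) * s = 121 * 120) : r ^ m = 1321 := by
  have hd : s ∈ Nat.divisors 121 := Nat.mem_divisors.2 ⟨hs, by norm_num⟩
  have hdiv : Nat.divisors 121 = {1, 11, 121} := by decide
  rw [hdiv] at hd
  simp only [Finset.mem_insert, Finset.mem_singleton] at hd
  rcases hd with rfl | rfl | rfl
  · have hp : r ^ m = 13 * 1117 := by omega
    have h13 : r = 13 :=
      ((Nat.prime_dvd_prime_iff_eq (by norm_num) hr).1
        ((by norm_num : Nat.Prime 13).dvd_of_dvd_pow (hp ▸ dvd_mul_right 13 1117))).symm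
    have h1117 : r = 1117 :=
      ((Nat.prime_dvd_prime_iff_eq (by norm_num) hr).1
        ((by norm_num : Nat.Prime 1117).dvd_of_dvd_pow (hp ▸ dvd_mul_left 1117 13))).symm
    omega
  · omega
  · have hp : r ^ m = 11 * 11 := by omega
    exact absurd ((Nat.prime_dvd_prime_iff_eq (by norm_num) hr).1
      ((by norm_num : Nat.Prime 11).dvd_of_dvd_pow (hp ▸ dvd_mul_right 11 11))).symm hr11

/-- No such `N` exists. -/
theorem false_of_transitive (N : Subgroup G) [N.Normal] {r m : ℕ} (hr : r.Prime) (hr11 : r ≠ 11)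
    (hcardN : Nat.card N = r ^ m) (hN : N ≠ ⊥) (hab : ∀ a ∈ N, ∀ b ∈ N, a * b = b * a)
    (hcard : Nat.card (G ⧸ N) = 121 * 120) (H : Subgroup (G ⧸ N))
    (hH : Nonempty (↥H ≃* Matrix.SpecialLinearGroup (Fin 2) (ZMod 5)))
    (htrans : ∀ a ∈ N, a ≠ 1 → ∀ b ∈ N, b ≠ 1 → ∃ g : G, g * a * g⁻¹ = b)
    (hfix : ∀ g : G, g ∉ N → ¬ 11 ∣ orderOf g → ∀ a ∈ N, g * a * g⁻¹ = a → a = 1) : False := by
  classical
  obtain ⟨⟨a, haN⟩, ha'⟩ : ∃ x : N, x ≠ 1 := by
    by_contra! hc
    exact hN (Subgroup.eq_bot_iff_forall N |>.2 fun x hx => congrArg Subtype.val (hc ⟨x, hx⟩))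
  have ha : a ≠ 1 := fun h => ha' (Subtype.ext h)
  have hN11 : ¬ 11 ∣ Nat.card N := by
    rw [hcardN]
    exact fun h => hr11
      ((Nat.prime_dvd_prime_iff_eq (by norm_num) hr).1
        ((by norm_num : Nat.Prime 11).dvd_of_dvd_pow h)).symm
  -- the point stabiliser
  let S : Subgroup G := Subgroup.centralizer ({a} : Set G)
  have hNS : N ≤ S := fun n hn =>
    Subgroup.mem_centralizer_singleton_iff.2 (hab n hn a haN)
  have hSindex : S.index = r ^ m - 1 := by
    have hset : MulAction.orbit (ConjAct G) a = (N : Set G) \ {1} := by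
      ext b
      rw [ConjAct.mem_orbit_conjAct, isConj_iff, Set.mem_sdiff, Set.mem_singleton_iff]
      constructor
      · rintro ⟨g, hg⟩
        have hba : b = g⁻¹ * a * g⁻¹⁻¹ := by rw [← hg]; group
        refine ⟨hba ▸ (inferInstance : N.Normal).conj_mem a haN g⁻¹, fun hb => ha ?_⟩
        rw [← hg, hb]; group
      · rintro ⟨hb, hb1⟩
        exact htrans b hb hb1 a haN ha
    have h0 := MulAction.index_stabilizer (ConjAct G) a
    rw [hset, ConjAct.stabilizer_eq_centralizer, Set.ncard_sdiff_singleton_of_mem N.one_mem,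
      ← Nat.card_coe_set_eq] at h0
    rw [← hcardN]
    exact h0
  have hmap := Subgroup.index_map_eq S (QuotientGroup.mk'_surjective N)
    ((QuotientGroup.ker_mk' N).trans_le hNS)
  set T : Subgroup (G ⧸ N) := S.map (QuotientGroup.mk' N) with hT
  have hprod : (r ^ m - 1) * Nat.card T = 121 * 120 := by
    rw [← hSindex, ← hmap, mul_comm, Subgroup.card_mul_index, hcard]
  -- it is an 11-group
  have hT11 : ∀ ℓ : ℕ, ℓ.Prime → ℓ ∣ Nat.card T → ℓ = 11 := by
    intro ℓ hℓ hdvd
    haveI : Fact ℓ.Prime := ⟨hℓ⟩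
    obtain ⟨⟨q, hq⟩, hqo⟩ := exists_prime_orderOf_dvd_card' ℓ hdvd
    obtain ⟨g, hgS, rfl⟩ := Subgroup.mem_map.1 hq
    rw [Subgroup.orderOf_mk, QuotientGroup.mk'_apply] at hqo
    by_contra hne
    have hgN : g ∉ N := fun h => by
      rw [(QuotientGroup.eq_one_iff g).2 h, orderOf_one] at hqo
      exact hℓ.one_lt.ne hqo
    have hord : ¬ 11 ∣ orderOf g := not_dvd_orderOf N hN11 g (by
      rw [hqo]; exact fun h => hne ((Nat.prime_dvd_prime_iff_eq (by norm_num) hℓ).1 h).symm)
    refine ha (hfix g hgN hord a haN ?_)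
    rw [Subgroup.mem_centralizer_singleton_iff.1 hgS]; group
  have hT121 : Nat.card T ∣ 121 := by
    have hcop : (Nat.card T).Coprime 120 := by
      by_contra hc
      obtain ⟨ℓ, hℓ, h1, h2⟩ := Nat.Prime.not_coprime_iff_dvd.1 hc
      rw [hT11 ℓ hℓ h1] at h2
      norm_num at h2
    exact hcop.dvd_of_dvd_mul_right (hcard ▸ T.card_subgroup_dvd_card)
  have h1321 : Nat.card N = 1321 := hcardN.trans (size_cases hr hr11 hT121 hprod)
  haveI : Fact (Nat.Prime 1321) := ⟨by norm_num⟩
  have hgen : ∀ x ∈ N, ∃ i : ℤ, a ^ i = x := fun x hx => by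
    obtain ⟨i, hi⟩ := Subgroup.mem_zpowers_iff.1
      (mem_zpowers_of_prime_card h1321 (g := (⟨a, haN⟩ : N)) (g' := (⟨x, hx⟩ : N)) ha')
    exact ⟨i, congrArg Subtype.val hi⟩
  -- so the perfect group `H` would be abelian
  obtain ⟨e⟩ := hH
  have hcomm : ∀ u v : H, u * v = v * u := by
    intro u v
    obtain ⟨g, hg⟩ := QuotientGroup.mk_surjective (u : G ⧸ N)
    obtain ⟨k, hk⟩ := QuotientGroup.mk_surjective (v : G ⧸ N)
    obtain ⟨i, hi⟩ := hgen _ ((inferInstance : N.Normal).conj_mem a haN g)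
    obtain ⟨j, hj⟩ := hgen _ ((inferInstance : N.Normal).conj_mem a haN k)
    have hgh : g * k * a * (g * k)⁻¹ = k * g * a * (k * g)⁻¹ := by
      have l : g * k * a * (g * k)⁻¹ = a ^ (i * j) := by
        rw [show g * k * a * (g * k)⁻¹ = g * (k * a * k⁻¹) * g⁻¹ by group, ← hj, ← conj_zpow,
          ← hi, ← zpow_mul]
      have r' : k * g * a * (k * g)⁻¹ = a ^ (j * i) := by
        rw [show k * g * a * (k * g)⁻¹ = k * (g * a * g⁻¹) * k⁻¹ by group, ← hi, ← conj_zpow,
          ← hj, ← zpow_mul]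
      rw [l, r', mul_comm]
    set w := (k * g)⁻¹ * (g * k) with hw
    have hwa : w * a * w⁻¹ = a := by
      rw [show w * a * w⁻¹ = (k * g)⁻¹ * (g * k * a * (g * k)⁻¹) * (k * g) by rw [hw]; group, hgh]
      group
    have hwH : (w : G ⧸ N) = ((v * u)⁻¹ * (u * v) : H) := by
      rw [hw]; simp [hg, hk]
    have hword : ¬ 11 ∣ orderOf w := not_dvd_orderOf N hN11 w (by
      rw [hwH, Subgroup.orderOf_coe]
      intro h
      have h120 : Nat.card H = 120 := by
        rw [Nat.card_congr e.toEquiv, Nat.card_eq_fintype_card]; decide +kernel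
      have := h.trans (orderOf_dvd_natCard _)
      rw [h120] at this
      norm_num at this)
    by_cases hwN : w ∈ N
    · rw [← QuotientGroup.eq_one_iff, hwH, OneMemClass.coe_eq_one, inv_mul_eq_one] at hwN
      exact hwN.symm
    · exact absurd (hfix w hwN hword a haN hwa) ha
  let A : Matrix.SpecialLinearGroup (Fin 2) (ZMod 5) := ⟨!![1, 1; 0, 1], by decide⟩
  let B : Matrix.SpecialLinearGroup (Fin 2) (ZMod 5) := ⟨!![1, 0; 1, 1], by decide⟩
  have := congrArg e (hcomm (e.symm A) (e.symm B))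
  simp only [map_mul, MulEquiv.apply_symm_apply] at this
  exact absurd this (by decide +kernel)

end Cfsg.Agent.OneClass35.ExtraLines
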