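import Cfsg.Agent.OneClass35.Count

/-!
# S4878: assembly
-/

set_option autoImplicit false
set_option linter.unusedSectionVars false

namespace Cfsg.Agent.OneClass35

universe u

theorem main (hCore : CoreStmt.{u}) (hRed : ReduceStmt.{u}) (hExtra : ExtraStmt.{u})
    {G : Type u} [Group G] [Finite G] (p : ℕ) [Fact p.Prime] (hsolv : Cfsg.IsPSolvable p G)
    (hdiv : p ∣ Nat.card G)
    (hconj : ∀ x y : G, x ≠ 1 → y ≠ 1 → (∃ k : ℕ, orderOf x = p ^ k) →
      (∃ k : ℕ, orderOf y = p ^ k) → IsConj x y) :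
    p ≤ regCount G p ∨
      (regCount G p = p - 1 ∧ Nonempty (G ≃* ↥(Cfsg.affineGroup (ZMod p)))) ∨
      (p = 11 ∧ regCount G p = 9 ∧ (Nat.card G = 121 * 120 ∧ ∃ H : Subgroup G,
        Cfsg.IsFrobeniusComplement H ∧
          Nonempty (↥H ≃* Matrix.SpecialLinearGroup (Fin 2) (ZMod 5)))) := by
  by_cases hN : Cfsg.pPrimeCore p G = ⊥
  · obtain ⟨n, H, ρ, hn, hρ, hcard, hreg, hfrob, haff⟩ := hRed G p hsolv hdiv hconj hN
    rcases hCore H p n ρ hρ hn with h | ⟨rfl, hH, hk⟩ | ⟨rfl, rfl, hH, hk, hiso⟩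
    · exact Or.inl (hreg ▸ h)
    · exact Or.inr (Or.inl ⟨hreg.trans hk, haff rfl hH⟩)
    · refine Or.inr (Or.inr ⟨rfl, hreg.trans hk, ?_, H, hfrob ?_ ?_, hiso⟩)
      · rw [hcard, hH]; norm_num
      · rw [hH]; norm_num
      · rw [hH]; norm_num
  set N := Cfsg.pPrimeCore p G with hNdef
  have hcop : ¬ p ∣ Nat.card N := Thompson.not_dvd_card_pPrimeCore
  haveI hNn : N.Normal := hNdef ▸ inferInstance
  have hdiv' : p ∣ Nat.card (G ⧸ N) := by
    rw [Subgroup.card_eq_card_quotient_mul_card_subgroup N] at hdiv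
    exact ((Fact.out : p.Prime).dvd_mul.mp hdiv).resolve_right hcop
  have hconj' : ∀ x y : G ⧸ N, x ≠ 1 → y ≠ 1 → (∃ k : ℕ, orderOf x = p ^ k) →
      (∃ k : ℕ, orderOf y = p ^ k) → IsConj x y := by
    rintro x y hx hy ⟨a, ha⟩ ⟨b, hb⟩
    obtain ⟨x', rfl, hx'⟩ := Count.exists_pElement_preimage N x ha
    obtain ⟨y', rfl, hy'⟩ := Count.exists_pElement_preimage N y hb
    exact (QuotientGroup.mk' N).map_isConj
      (hconj x' y' (fun h => hx (by rw [h, map_one])) (fun h => hy (by rw [h, map_one])) hx' hy')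
  have hQ : Cfsg.pPrimeCore p (G ⧸ N) = ⊥ :=
    Thompson.pPrimeCore_quotient_eq_bot N Thompson.card_pPrimeCore_coprime le_rfl
  obtain ⟨n, H, ρ, hn, hρ, hcard, hreg, hfrob, -⟩ :=
    hRed (G ⧸ N) p (Thompson.isPSolvable_quotient N hsolv) hdiv' hconj' hQ
  have hlt := Count.regCount_quotient_lt (p := p) N hN hcop
  rcases hCore H p n ρ hρ hn with h | ⟨-, -, hk⟩ | ⟨rfl, rfl, hH, hk, hiso⟩
  · exact Or.inl (by omega)
  · exact Or.inl (by omega)
  · refine Or.inl ?_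
    have h2 := hExtra G N hN hcop (by rw [hcard, hH]; norm_num)
      ⟨H, hfrob (by rw [hH]; norm_num) (by rw [hH]; norm_num), hiso⟩
    omega

end Cfsg.Agent.OneClass35
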