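import Cfsg.Agent.OneClass35.Defs
import Cfsg.Agent.Lib.Thompson.PSolvable

/-!
# S4878, piece REDUCE

A `p`-solvable group with trivial `p`-prime core in which all nontrivial `p`-elements are
conjugate is an elementary abelian `p`-group extended by a linear group of order prime to `p`,
transitive on the nonzero vectors.
-/

set_option autoImplicit false
set_option linter.style.haveILetI false

open scoped Pointwise Matrix

namespace Cfsg.Agent.OneClass35

open Cfsg

universe u

namespace Reduce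

variable {G : Type u} [Group G]

/-- Coordinates on a normal elementary abelian subgroup and the conjugation action in them. -/
theorem exists_coords [Finite G] {p : ℕ} [Fact p.Prime] (P : Subgroup G) [P.Normal]
    (hcomm : ∀ x ∈ P, ∀ y ∈ P, x * y = y * x) (hexp : ∀ x ∈ P, x ^ p = 1) :
    ∃ (n : ℕ) (E : ↥P ≃ (Fin n → ZMod p)) (ρ : G →* GL (Fin n) (ZMod p)),
      (∀ x y : ↥P, E (x * y) = E x + E y) ∧ Nat.card ↥P = p ^ n ∧
      ∀ (g : G) (x : ↥P),
        (ρ g : Matrix (Fin n) (Fin n) (ZMod p)).mulVec (E x) = E (MulAut.conjNormal g x) := by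
  classical
  have hcm : ∀ x y : ↥P, x * y = y * x := fun x y => Subtype.ext (hcomm x x.2 y y.2)
  letI _iP : CommGroup ↥P := { (inferInstance : Group ↥P) with mul_comm := hcm }
  have hsmul : ∀ x : Additive ↥P, p • x = 0 := by
    intro x
    refine Additive.toMul.injective ?_
    show (Additive.toMul x) ^ p = 1
    exact Subtype.ext (by simpa using hexp _ (Additive.toMul x).2)
  obtain ⟨_iM⟩ : Nonempty (Module (ZMod p) (Additive ↥P)) := ⟨AddCommGroup.zmodModule hsmul⟩
  haveI : Finite (Additive ↥P) := inferInstanceAs (Finite ↥P)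
  haveI : Module.Finite (ZMod p) (Additive ↥P) := Module.Finite.of_finite
  let n := Module.finrank (ZMod p) (Additive ↥P)
  let e : Additive ↥P ≃ₗ[ZMod p] (Fin n → ZMod p) :=
    (Module.finBasis (ZMod p) (Additive ↥P)).equivFun
  let φ : G → (Additive ↥P →ₗ[ZMod p] Additive ↥P) := fun g =>
    (MonoidHom.toAdditive (MulAut.conjNormal g : MulAut ↥P).toMonoidHom).toZModLinearMap p
  have hφ1 : φ 1 = LinearMap.id := by
    refine LinearMap.ext fun x => Additive.toMul.injective ?_
    show MulAut.conjNormal (1 : G) (Additive.toMul x) = Additive.toMul x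
    rw [map_one]; rfl
  have hφm : ∀ g h : G, φ (g * h) = φ g ∘ₗ φ h := by
    intro g h
    refine LinearMap.ext fun x => Additive.toMul.injective ?_
    show MulAut.conjNormal (g * h) (Additive.toMul x) =
      MulAut.conjNormal g (MulAut.conjNormal h (Additive.toMul x))
    rw [map_mul]; rfl
  let L : G → ((Fin n → ZMod p) →ₗ[ZMod p] (Fin n → ZMod p)) := fun g =>
    e.toLinearMap ∘ₗ φ g ∘ₗ e.symm.toLinearMap
  let M : G →* Matrix (Fin n) (Fin n) (ZMod p) :=
    { toFun := fun g => LinearMap.toMatrix' (L g)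
      map_one' := by
        have h1 : L 1 = LinearMap.id := LinearMap.ext fun v => by simp [L, hφ1]
        show LinearMap.toMatrix' (L 1) = 1
        rw [h1, LinearMap.toMatrix'_id]
      map_mul' := fun g h => by
        have h1 : L (g * h) = L g ∘ₗ L h := LinearMap.ext fun v => by simp [L, hφm]
        show LinearMap.toMatrix' (L (g * h)) = _
        rw [h1, LinearMap.toMatrix'_comp] }
  refine ⟨n, Additive.ofMul.trans e.toEquiv, M.toHomUnits, fun x y => ?_, ?_, fun g x => ?_⟩
  · show e (Additive.ofMul (x * y)) = e (Additive.ofMul x) + e (Additive.ofMul y)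
    rw [ofMul_mul, map_add]
  · rw [Nat.card_congr (Additive.ofMul.trans e.toEquiv), Nat.card_fun]
    simp
  · rw [MonoidHom.coe_toHomUnits]
    show (LinearMap.toMatrix' (L g)).mulVec (e (Additive.ofMul x)) = _
    rw [← Matrix.toLin'_apply, Matrix.toLin'_toMatrix']
    show e (φ g (e.symm (e (Additive.ofMul x)))) = _
    rw [LinearEquiv.symm_apply_apply]
    rfl

variable {P H : Subgroup G} [P.Normal]

/-- An element of `H` whose conjugate by an element of `P` stays in `H` is fixed by it. -/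
theorem comm_of_mem (hdisj : Disjoint P H) {a k : G} (ha : a ∈ P) (hk : k ∈ H)
    (h : a * k * a⁻¹ ∈ H) : a * k = k * a := by
  have h1 : a * k * a⁻¹ * k⁻¹ ∈ P := by
    have h2 := P.mul_mem ha ((inferInstance : P.Normal).conj_mem a⁻¹ (P.inv_mem ha) k)
    simpa [mul_assoc] using h2
  have h3 : a * k * a⁻¹ * k⁻¹ = 1 :=
    (Subgroup.mem_bot).1 (hdisj.le_bot ⟨h1, H.mul_mem h (H.inv_mem hk)⟩)
  have h4 := congrArg (fun z => z * k * a) h3
  simpa [mul_assoc] using h4

omit [P.Normal] in
/-- The telescoping product: an element of `P` of trivial norm is a commutator. -/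
theorem exists_conj_eq [P.Normal] {p : ℕ} [Fact p.Prime] (hcomm : ∀ x ∈ P, ∀ y ∈ P, x * y = y * x)
    (hexp : ∀ x ∈ P, x ^ p = 1) {a h : G} (ha : a ∈ P) {m : ℕ} (hm : m.Coprime p)
    (hh : h ^ m = 1) (hg : (a * h) ^ m = 1) : ∃ b ∈ P, b * h * b⁻¹ = a * h := by
  classical
  let _iP : CommGroup ↥P :=
    { (inferInstance : Group ↥P) with
      mul_comm := fun x y => Subtype.ext (hcomm x x.2 y y.2) }
  have hc : ∀ i : ℕ, (a * h) ^ i * (h ^ i)⁻¹ ∈ P := by
    intro i
    induction i with
    | zero => simp [P.one_mem]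
    | succ i ih =>
      have h1 : (a * h) ^ (i + 1) * (h ^ (i + 1))⁻¹ =
          a * (h * ((a * h) ^ i * (h ^ i)⁻¹) * h⁻¹) := by
        rw [pow_succ' (a * h), pow_succ h]
        group
      rw [h1]
      exact P.mul_mem ha ((inferInstance : P.Normal).conj_mem _ ih h)
  let c : ℕ → ↥P := fun i => ⟨(a * h) ^ i * (h ^ i)⁻¹, hc i⟩
  let φ : ↥P →* ↥P := (MulAut.conjNormal h : MulAut ↥P).toMonoidHom
  have hφ : ∀ x : ↥P, ((φ x : ↥P) : G) = h * x * h⁻¹ := fun x => MulAut.conjNormal_apply h x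
  have hstep : ∀ i, c (i + 1) = ⟨a, ha⟩ * φ (c i) := by
    intro i
    refine Subtype.ext ?_
    rw [Subgroup.coe_mul, hφ]
    show (a * h) ^ (i + 1) * (h ^ (i + 1))⁻¹ = a * (h * ((a * h) ^ i * (h ^ i)⁻¹) * h⁻¹)
    rw [pow_succ' (a * h), pow_succ h]
    group
  have hc0 : c 0 = 1 := Subtype.ext (by simp [c])
  have hcm : c m = 1 := Subtype.ext (by simp [c, hh, hg])
  let T : ↥P := ∏ i ∈ Finset.range m, c i
  have h1 : ∏ i ∈ Finset.range m, c (i + 1) = T := by
    have e1 := Finset.prod_range_succ' c m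
    rw [Finset.prod_range_succ, hc0, hcm, mul_one, mul_one] at e1
    exact e1.symm
  have h2 : (⟨a, ha⟩ : ↥P) ^ m * φ T = T := by
    have e2 : ∏ i ∈ Finset.range m, c (i + 1) =
        ∏ i ∈ Finset.range m, ((⟨a, ha⟩ : ↥P) * φ (c i)) :=
      Finset.prod_congr rfl fun i _ => hstep i
    rw [Finset.prod_mul_distrib, Finset.prod_const, Finset.card_range, h1, ← map_prod] at e2
    exact e2.symm
  obtain ⟨k, -, hk⟩ := Nat.exists_mul_mod_eq_one_of_coprime hm (Fact.out : p.Prime).one_lt
  have hap : (⟨a, ha⟩ : ↥P) ^ p = 1 := Subtype.ext (by simpa using hexp a ha)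
  have hamk : ((⟨a, ha⟩ : ↥P) ^ m) ^ k = ⟨a, ha⟩ := by
    rw [← pow_mul, ← Nat.mod_add_div (m * k) p, hk, pow_add, pow_mul, hap]
    simp
  have h3 : (⟨a, ha⟩ : ↥P) * φ (T ^ k) = T ^ k := by
    calc (⟨a, ha⟩ : ↥P) * φ (T ^ k) = ((⟨a, ha⟩ : ↥P) ^ m * φ T) ^ k := by
          rw [mul_pow, hamk, map_pow]
      _ = T ^ k := by rw [h2]
  refine ⟨((T ^ k : ↥P) : G), (T ^ k).2, ?_⟩
  have h4 := congrArg (fun z : ↥P => (z : G)) h3
  simp only [Subgroup.coe_mul, hφ] at h4
  generalize ((T ^ k : ↥P) : G) = b at h4 ⊢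
  have h5 : b = a * (h * b * h⁻¹) := h4.symm
  calc b * h * b⁻¹ = a * (h * b * h⁻¹) * h * b⁻¹ := by rw [← h5]
    _ = a * h := by group

end Reduce

open Reduce in
theorem reduce : ReduceStmt.{u} := by
  intro G _ _ p _ hps hdvd hconj hcore
  classical
  have hp : p.Prime := Fact.out
  haveI : Nontrivial G := by
    refine Finite.one_lt_card_iff_nontrivial.1 ?_
    exact lt_of_lt_of_le hp.one_lt (Nat.le_of_dvd Nat.card_pos hdvd)
  have hPne : pCore p G ≠ ⊥ :=
    (Thompson.pCore_ne_bot_or_pPrimeCore_ne_bot hps).resolve_right (not_not_intro hcore)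
  have hPp : IsPGroup p ↥(pCore p G) := Thompson.isPGroup_pCore
  set P : Subgroup G := pCore p G with hPdef
  haveI : P.Normal := Thompson.instPCoreNormal
  have hPel : ∀ x ∈ P, ∃ k : ℕ, orderOf x = p ^ k := by
    intro x hx
    obtain ⟨k, hk⟩ := IsPGroup.iff_orderOf.1 hPp ⟨x, hx⟩
    exact ⟨k, by rw [← hk, Subgroup.orderOf_mk]⟩
  obtain ⟨x0, hx0, hx01⟩ := P.bot_or_exists_ne_one.resolve_left hPne
  have hmem : ∀ y : G, (∃ k : ℕ, orderOf y = p ^ k) → y ∈ P := by
    intro y hy
    rcases eq_or_ne y 1 with rfl | hy1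
    · exact P.one_mem
    obtain ⟨c, hc⟩ := isConj_iff.1 (hconj x0 y hx01 hy1 (hPel x0 hx0) hy)
    rw [← hc]
    exact (inferInstance : P.Normal).conj_mem x0 hx0 c
  have hcomm : ∀ x ∈ P, ∀ y ∈ P, x * y = y * x := by
    haveI : Nontrivial ↥P := (Subgroup.nontrivial_iff_ne_bot _).2 hPne
    haveI := hPp.center_nontrivial
    obtain ⟨⟨z, hzc⟩, hz1⟩ := exists_ne (1 : ↥(Subgroup.center ↥P))
    have hz1' : (z : G) ≠ 1 := fun hh => hz1 (Subtype.ext (Subtype.ext hh))
    intro x hx y hy
    rcases eq_or_ne x 1 with rfl | hx1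
    · simp
    obtain ⟨c, hc⟩ := isConj_iff.1 (hconj (z : G) x hz1' hx1 (hPel _ z.2) (hPel x hx))
    have hy' : c⁻¹ * y * c ∈ P := by
      simpa using (inferInstance : P.Normal).conj_mem y hy c⁻¹
    have h2 : c⁻¹ * y * c * (z : G) = (z : G) * (c⁻¹ * y * c) :=
      congrArg (fun w : ↥P => (w : G)) (Subgroup.mem_center_iff.1 hzc ⟨_, hy'⟩)
    have h3 := congrArg (fun w => c * w * c⁻¹) h2
    rw [← hc]
    simpa [mul_assoc] using h3.symm
  have hexp : ∀ x ∈ P, x ^ p = 1 := by
    intro x hx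
    rcases eq_or_ne x 1 with rfl | hx1
    · simp
    obtain ⟨y, hy⟩ := exists_prime_orderOf_dvd_card' (G := G) p hdvd
    have hy1 : y ≠ 1 := by
      rintro rfl
      rw [orderOf_one] at hy
      exact hp.one_lt.ne hy
    obtain ⟨c, hc⟩ := isConj_iff.1 (hconj y x hy1 hx1 ⟨1, by simpa using hy⟩ (hPel x hx))
    rw [← hc, conj_pow, ← hy, pow_orderOf_eq_one]
    simp
  obtain ⟨n, E, ρ₀, hEadd, hPcard, hρ⟩ := exists_coords P hcomm hexp
  have hnot : ¬ p ∣ P.index := by
    intro hd
    obtain ⟨S⟩ : Nonempty (Sylow p G) := inferInstance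
    have hle : (S : Subgroup G) ≤ P := fun y hy => hmem y (by
      obtain ⟨k, hk⟩ := IsPGroup.iff_orderOf.1 S.isPGroup' ⟨y, hy⟩
      exact ⟨k, by rw [← hk, Subgroup.orderOf_mk]⟩)
    exact S.not_dvd_index (hd.trans (Subgroup.index_dvd_of_le hle))
  have hcop : (Nat.card ↥P).Coprime P.index := by
    rw [hPcard]
    exact (hp.coprime_iff_not_dvd.2 hnot).pow_left n
  obtain ⟨H, hH⟩ := Subgroup.exists_right_complement'_of_coprime hcop
  have hHcard : Nat.card ↥H = P.index := hH.symm.index_eq_card.symm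
  have hGcard : Nat.card G = p ^ n * Nat.card ↥H := by rw [← hPcard, hH.card_mul_card]
  have hpH : ¬ p ∣ Nat.card ↥H := by rw [hHcard]; exact hnot
  have hdisj : Disjoint P H := hH.disjoint
  have hsplit : ∀ g : G, ∃ a ∈ P, ∃ k ∈ H, a * k = g := by
    intro g
    obtain ⟨⟨⟨a, ha⟩, ⟨k, hk⟩⟩, he⟩ := hH.2 g
    exact ⟨a, ha, k, hk, he⟩
  have hsplit' : ∀ g : G, ∃ k ∈ H, ∃ a ∈ P, k * a = g := by
    intro g
    obtain ⟨⟨⟨k, hk⟩, ⟨a, ha⟩⟩, he⟩ := hH.symm.2 g
    exact ⟨k, hk, a, ha, he⟩
  have hE1 : E 1 = 0 := by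
    have h1 := hEadd 1 1
    rw [one_mul] at h1
    simpa using h1.symm
  have hfix : ∀ k ∈ H, (∀ x ∈ P, k * x = x * k) → k = 1 := by
    have hN : (H ⊓ Subgroup.centralizer (P : Set G)).Normal := ⟨fun c hc g => by
      obtain ⟨k, hk, a, ha, rfl⟩ := hsplit' g
      have hac : a * c = c * a := Subgroup.mem_centralizer_iff.1 hc.2 a ha
      have h1 : k * a * c * (k * a)⁻¹ = k * c * k⁻¹ := by
        rw [mul_inv_rev, mul_assoc k a c, hac]
        group
      rw [h1]
      refine ⟨H.mul_mem (H.mul_mem hk hc.1) (H.inv_mem hk),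
        Subgroup.mem_centralizer_iff.2 fun x hx => ?_⟩
      have hx' : k⁻¹ * x * k ∈ P := by
        simpa using (inferInstance : P.Normal).conj_mem x hx k⁻¹
      have h2 := congrArg (fun w => k * w * k⁻¹) (Subgroup.mem_centralizer_iff.1 hc.2 _ hx')
      simpa [mul_assoc] using h2⟩
    have hcp : (Nat.card ↥(H ⊓ Subgroup.centralizer (P : Set G))).Coprime p :=
      ((hp.coprime_iff_not_dvd.2 hpH).symm).coprime_dvd_left (Subgroup.card_dvd_of_le inf_le_left)
    intro k hk hkc
    have h3 : k ∈ pPrimeCore p G :=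
      Thompson.le_pPrimeCore hN hcp ⟨hk, Subgroup.mem_centralizer_iff.2 fun x hx => (hkc x hx).symm⟩
    rw [hcore] at h3
    exact h3
  have hn : 1 ≤ n := by
    by_contra hn
    have h0 : n = 0 := by omega
    rw [h0, pow_zero] at hPcard
    exact hPne (Subgroup.card_eq_one.1 hPcard)
  have htrans : ∀ v w : Fin n → ZMod p, v ≠ 0 → w ≠ 0 →
      ∃ k : ↥H, ((ρ₀.comp H.subtype) k : Matrix (Fin n) (Fin n) (ZMod p)).mulVec v = w := by
    intro v w hv hw
    obtain ⟨x, rfl⟩ := E.surjective v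
    obtain ⟨y, rfl⟩ := E.surjective w
    have hx : (x : G) ≠ 1 := fun hh => hv (by
      rw [show x = 1 from Subtype.ext hh, hE1])
    have hy : (y : G) ≠ 1 := fun hh => hw (by
      rw [show y = 1 from Subtype.ext hh, hE1])
    obtain ⟨g, hg⟩ := isConj_iff.1 (hconj (x : G) y hx hy (hPel _ x.2) (hPel _ y.2))
    obtain ⟨k, hk, a, ha, rfl⟩ := hsplit' g
    refine ⟨⟨k, hk⟩, ?_⟩
    show (ρ₀ k : Matrix (Fin n) (Fin n) (ZMod p)).mulVec (E x) = E y
    rw [hρ]
    refine congrArg E (Subtype.ext ?_)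
    rw [MulAut.conjNormal_apply, ← hg]
    have hax : a * (x : G) * a⁻¹ = x := by rw [hcomm a ha x x.2, mul_inv_cancel_right]
    conv_lhs => rw [← hax]
    group
  have hinj : Function.Injective (ρ₀.comp H.subtype) := by
    refine (injective_iff_map_eq_one _).2 fun k hk => Subtype.ext (hfix k k.2 fun x hx => ?_)
    have hk' : ρ₀ (k : G) = 1 := hk
    have h1 := hρ (k : G) ⟨x, hx⟩
    rw [hk', Units.val_one, Matrix.one_mulVec] at h1
    have h2 := congrArg (fun z : ↥P => (z : G)) (E.injective h1)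
    simp only [MulAut.conjNormal_apply] at h2
    calc (k : G) * x = (k : G) * x * (k : G)⁻¹ * k := by group
      _ = x * k := by rw [← h2]
  refine ⟨n, H, ρ₀.comp H.subtype, hn, ⟨hinj, hpH, htrans⟩, hGcard, ?_, ?_, ?_⟩
  · -- classes of `p`-regular elements
    let f : ConjClasses ↥H → {c : ConjClasses G // ∃ g : G, ConjClasses.mk g = c ∧ ¬ p ∣ orderOf g} :=
      fun c => ⟨ConjClasses.map H.subtype c, by
        refine Quotient.inductionOn c fun k => ?_
        refine ⟨(k : G), rfl, fun hd => hpH (hd.trans ?_)⟩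
        rw [Subgroup.orderOf_coe]
        exact orderOf_dvd_natCard k⟩
    have hf : Function.Bijective f := by
      refine ⟨fun c d => ?_, fun ⟨c, g, hgc, hgo⟩ => ?_⟩
      · refine Quotient.inductionOn₂ c d fun k k' he => ?_
        have he' : IsConj (k : G) (k' : G) :=
          ConjClasses.mk_eq_mk_iff_isConj.1 (congrArg Subtype.val he)
        obtain ⟨g, hg⟩ := isConj_iff.1 he'
        obtain ⟨l, hl, a, ha, rfl⟩ := hsplit' g
        have h1 : a * (k : G) * a⁻¹ = l⁻¹ * (k' : G) * l := by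
          rw [← hg]; group
        have h2 : a * (k : G) * a⁻¹ ∈ H := by
          rw [h1]; exact H.mul_mem (H.mul_mem (H.inv_mem hl) k'.2) hl
        have h3 := comm_of_mem hdisj ha k.2 h2
        refine ConjClasses.mk_eq_mk_iff_isConj.2 (isConj_iff.2 ⟨⟨l, hl⟩, Subtype.ext ?_⟩)
        show l * (k : G) * l⁻¹ = k'
        rw [← hg, mul_inv_rev, mul_assoc l a, h3]
        group
      · obtain ⟨a, ha, k, hk, rfl⟩ := hsplit g
        have hm : (orderOf (a * k)).Coprime p := (hp.coprime_iff_not_dvd.2 hgo).symm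
        have hkm : k ^ orderOf (a * k) = 1 := by
          have h1 : (k : G) ^ orderOf (a * k) ∈ P := by
            rw [← QuotientGroup.eq_one_iff]
            have h2 : ((a * k : G) : G ⧸ P) = (k : G ⧸ P) := by
              rw [QuotientGroup.mk_mul, (QuotientGroup.eq_one_iff a).2 ha, one_mul]
            rw [QuotientGroup.mk_pow, ← h2, ← QuotientGroup.mk_pow, pow_orderOf_eq_one]
            rfl
          exact Subgroup.mem_bot.1 (hdisj.le_bot ⟨h1, H.pow_mem hk _⟩)
        obtain ⟨b, -, hb⟩ := exists_conj_eq hcomm hexp ha hm hkm (pow_orderOf_eq_one _)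
        refine ⟨ConjClasses.mk ⟨k, hk⟩, Subtype.ext ?_⟩
        show ConjClasses.mk k = c
        rw [← hgc]
        exact ConjClasses.mk_eq_mk_iff_isConj.2 (isConj_iff.2 ⟨b, hb⟩)
    exact (Nat.card_congr (Equiv.ofBijective f hf)).symm
  · -- regular action gives a Frobenius complement
    intro hcard h2
    refine ⟨?_, ?_, fun g hg => ?_⟩
    · rintro rfl
      simp at h2
    · rintro rfl
      rw [Subgroup.card_top] at hGcard
      have h3 : p ^ n = 1 := by
        have h4 : Nat.card G * 1 = Nat.card G * p ^ n := by rw [mul_one, mul_comm]; exact hGcard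
        exact (Nat.eq_of_mul_eq_mul_left Nat.card_pos h4).symm
      exact (one_lt_pow₀ hp.one_lt (by omega : n ≠ 0)).ne' h3
    · rw [eq_bot_iff]
      rintro y ⟨hy, hy'⟩
      have hy'' : y ∈ MulAut.conj g • H := hy'
      rw [Subgroup.mem_smul_pointwise_iff_exists] at hy''
      obtain ⟨z, hz, rfl⟩ := hy''
      obtain ⟨k, hk, a, ha, rfl⟩ := hsplit' g
      have ha1 : a ≠ 1 := by
        rintro rfl
        exact hg (by simpa using hk)
      have h1 : k * a * z * (k * a)⁻¹ ∈ H := hy
      have h2' : a * z * a⁻¹ ∈ H := by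
        have h3 := H.mul_mem (H.mul_mem (H.inv_mem hk) h1) hk
        simpa [mul_assoc] using h3
      have h4 := comm_of_mem hdisj ha hz h2'
      -- the orbit of the vector of `a` is regular
      have hv : E ⟨a, ha⟩ ≠ 0 := by
        intro hh
        rw [← hE1] at hh
        exact ha1 (congrArg Subtype.val (E.injective hh))
      let orb : ↥H → {v : Fin n → ZMod p // v ≠ 0} := fun l =>
        ⟨(ρ₀ (l : G) : Matrix (Fin n) (Fin n) (ZMod p)).mulVec (E ⟨a, ha⟩), by
          rw [hρ, ← hE1]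
          intro hh
          have h5 := E.injective hh
          rw [map_eq_one_iff _ (MulEquiv.injective _)] at h5
          exact ha1 (congrArg Subtype.val h5)⟩
      have hsurj : Function.Surjective orb := fun w => by
        obtain ⟨l, hl⟩ := htrans _ w.1 hv w.2
        exact ⟨l, Subtype.ext hl⟩
      have hle : Nat.card ↥H ≤ Nat.card {v : Fin n → ZMod p // v ≠ 0} := by
        rw [hcard, Nat.card_eq_fintype_card, Fintype.card_subtype_compl]
        simp
      have hbij := Function.Surjective.bijective_of_nat_card_le hsurj hle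
      have h6 : orb ⟨z, hz⟩ = orb 1 := by
        refine Subtype.ext ?_
        show (ρ₀ z : Matrix (Fin n) (Fin n) (ZMod p)).mulVec _ =
          (ρ₀ ((1 : ↥H) : G) : Matrix (Fin n) (Fin n) (ZMod p)).mulVec _
        rw [hρ, Subgroup.coe_one, hρ]
        refine congrArg E (Subtype.ext ?_)
        rw [MulAut.conjNormal_apply, MulAut.conjNormal_apply]
        rw [← h4]
        group
      have hz1 : z = 1 := congrArg Subtype.val (hbij.1 h6)
      simp [hz1]
  · -- dimension one
    rintro rfl hcard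
    let ψ : ↥P → G ⧸ H := fun x => ((x : G) : G ⧸ H)
    have hψ : Function.Bijective ψ := by
      refine ⟨fun x y he => ?_, fun c => ?_⟩
      · have h1 : (x : G)⁻¹ * y ∈ H := QuotientGroup.eq.1 he
        have h2 : (x : G)⁻¹ * y = 1 :=
          Subgroup.mem_bot.1 (hdisj.le_bot ⟨P.mul_mem (P.inv_mem x.2) y.2, h1⟩)
        exact Subtype.ext (inv_mul_eq_one.1 h2)
      · refine Quotient.inductionOn c fun g => ?_
        obtain ⟨a, ha, k, hk, rfl⟩ := hsplit g
        exact ⟨⟨a, ha⟩, QuotientGroup.eq.2 (by simpa using hk)⟩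
    let θ : G ⧸ H ≃ ZMod p :=
      ((Equiv.ofBijective ψ hψ).symm.trans E).trans (Equiv.funUnique (Fin 1) (ZMod p))
    have hθ : ∀ x : ↥P, θ ((x : G) : G ⧸ H) = E x 0 := by
      intro x
      show E ((Equiv.ofBijective ψ hψ).symm (ψ x)) 0 = E x 0
      rw [Equiv.ofBijective_symm_apply_apply]
    let F : G →* Equiv.Perm (ZMod p) := (θ.permCongrHom.toMonoidHom).comp (MulAction.toPermHom G (G ⧸ H))
    have hFapp : ∀ (g : G) (x : ↥P), F g (E x 0) = θ (g • ((x : G) : G ⧸ H)) := by
      intro g x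
      rw [← hθ x]
      show θ (g • (θ.symm (θ _))) = _
      rw [Equiv.symm_apply_apply]
    have hact : ∀ (a : ↥P) (k : G), k ∈ H → ∀ x : ↥P,
        F ((a : G) * k) (E x 0) = (ρ₀ k : Matrix (Fin 1) (Fin 1) (ZMod p)) 0 0 * E x 0 + E a 0 := by
      intro a k hk x
      have h1 : ((a : G) * k) • ((x : G) : G ⧸ H) =
          (((a * MulAut.conjNormal k x : ↥P) : G) : G ⧸ H) := by
        rw [Subgroup.coe_mul, MulAut.conjNormal_apply]
        refine QuotientGroup.eq.2 ?_
        have h2 : ((a : G) * k * x)⁻¹ * ((a : G) * (k * (x : G) * k⁻¹)) = k⁻¹ := by group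
        show ((a : G) * k * x)⁻¹ * ((a : G) * (k * (x : G) * k⁻¹)) ∈ H
        rw [h2]
        exact H.inv_mem hk
      rw [hFapp, h1, hθ, hEadd, Pi.add_apply, ← hρ, add_comm]
      congr 1
      simp [Matrix.mulVec, dotProduct]
    have hmemA : ∀ g, F g ∈ affineGroup (ZMod p) := by
      intro g
      obtain ⟨a, ha, k, hk, rfl⟩ := hsplit g
      have hne : (ρ₀ k : Matrix (Fin 1) (Fin 1) (ZMod p)) 0 0 ≠ 0 := by
        intro h0
        obtain ⟨x, hx⟩ := E.surjective (fun _ => (1 : ZMod p))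
        have h1 := congrFun (hρ k x) 0
        have h2 : E (MulAut.conjNormal k x) = E 1 := by
          rw [hE1]
          refine funext fun i => ?_
          rw [Subsingleton.elim i 0, ← h1]
          simp [Matrix.mulVec, dotProduct, h0]
        have h3 := E.injective h2
        rw [map_eq_one_iff _ (MulEquiv.injective _)] at h3
        rw [h3, hE1] at hx
        exact zero_ne_one (congrFun hx 0)
      refine ⟨Units.mk0 _ hne, E ⟨a, ha⟩ 0, fun y => ?_⟩
      obtain ⟨x, hx⟩ := E.surjective (fun _ => y)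
      have h1 := hact ⟨a, ha⟩ k hk x
      rw [hx] at h1
      exact h1
    have hFinj : Function.Injective F := by
      refine (injective_iff_map_eq_one F).2 fun g hg => ?_
      obtain ⟨a, ha, k, hk, rfl⟩ := hsplit g
      have h1 : ∀ x : ↥P, (ρ₀ k : Matrix (Fin 1) (Fin 1) (ZMod p)) 0 0 * E x 0 + E ⟨a, ha⟩ 0 =
          E x 0 := fun x => by rw [← hact ⟨a, ha⟩ k hk x, hg]; rfl
      have ha0 : E ⟨a, ha⟩ 0 = 0 := by simpa [hE1] using h1 1
      have ha1 : a = 1 := by
        have h2 : E ⟨a, ha⟩ = E 1 := by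
          rw [hE1]
          exact funext fun i => by rw [Subsingleton.elim i 0, ha0]; rfl
        exact congrArg Subtype.val (E.injective h2)
      have hk1 : k = 1 := hfix k hk fun x hx => by
        have h3 := h1 ⟨x, hx⟩
        rw [ha0, add_zero] at h3
        have h4 : E (MulAut.conjNormal k ⟨x, hx⟩) = E ⟨x, hx⟩ := by
          rw [← hρ]
          refine funext fun i => ?_
          rw [Subsingleton.elim i 0]
          simpa [Matrix.mulVec, dotProduct] using h3
        have h5 := congrArg Subtype.val (E.injective h4)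
        rw [MulAut.conjNormal_apply] at h5
        calc k * x = k * x * k⁻¹ * k := by group
          _ = x * k := by rw [h5]
      rw [ha1, hk1, one_mul]
    let F' : G →* ↥(affineGroup (ZMod p)) := F.codRestrict _ hmemA
    have hF'inj : Function.Injective F' := fun x y he => hFinj (congrArg Subtype.val he)
    have hAcard : Nat.card ↥(affineGroup (ZMod p)) ≤ Nat.card G := by
      let j : (ZMod p)ˣ × ZMod p → ↥(affineGroup (ZMod p)) := fun z =>
        ⟨(Equiv.mulLeft₀ (z.1 : ZMod p) z.1.ne_zero).trans (Equiv.addRight z.2),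
          z.1, z.2, fun x => rfl⟩
      have hj : Function.Surjective j := fun ⟨σ, a, b, hσ⟩ =>
        ⟨(a, b), Subtype.ext (Equiv.ext fun x => (hσ x).symm)⟩
      refine le_trans (Nat.card_le_card_of_surjective j hj) ?_
      rw [hGcard, hcard, Nat.card_prod, Nat.card_zmod, Nat.card_eq_fintype_card, ZMod.card_units,
        pow_one, mul_comm]
    exact ⟨MulEquiv.ofBijective F' (Function.Injective.bijective_of_nat_card_le hF'inj hAcard)⟩

end Cfsg.Agent.OneClass35
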