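import Cfsg.Agent.OneClass35.Defs
import Cfsg.Agent.BlkChar.DegreeTwo
import Cfsg.Agent.Lib.CharInd.Imprimitive
import Cfsg.Agent.Lib.CharCore.Linear

/-!
# S4878, piece SHAPE: finite groups with a faithful character of degree two
-/

set_option autoImplicit false

open Cfsg Matrix

namespace Cfsg.Agent.OneClass35

namespace Shape

universe u

variable {H : Type u} [Group H]

/-- A commutator is killed by a homomorphism to an abelian group. -/
theorem hom_comm_eq_one (f : H →* ℂˣ) (a b : H) : f (a * b * a⁻¹ * b⁻¹) = 1 := by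
  rw [map_mul, map_mul, map_mul, map_inv, map_inv, mul_comm (f a) (f b), mul_inv_cancel_right,
    mul_inv_cancel]

theorem eq_of_comm_eq_one {a b : H} (h : a * b * a⁻¹ * b⁻¹ = 1) : a * b = b * a := by
  have h1 := mul_inv_eq_one.1 h
  exact mul_inv_eq_iff_eq_mul.1 h1

/-- A faithful character that is not irreducible and has degree two lives on an abelian group. -/
theorem comm_of_not_irr [Finite H] {χ : H → ℂ} (hc : IsCharacter H χ) (h2 : χ 1 = 2)
    (hfaith : ∀ g : H, χ g = χ 1 → g = 1) (hni : ¬ IsIrrCharacter H χ) (a b : H) :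
    a * b = b * a := by
  classical
  obtain ⟨m, hm⟩ := CharCore.IsCharacter.exists_sum hc
  have hdeg : ∀ ψ : IrrCharacter H, ∃ d : ℕ, 0 < d ∧ (ψ : H → ℂ) 1 = d :=
    fun ψ => CharCore.IsIrrCharacter.exists_degree ψ.2
  choose d hd0 hd using hdeg
  have happ : ∀ g : H, χ g = ∑ ψ, (m ψ : ℂ) * (ψ : H → ℂ) g := by
    intro g
    rw [hm, Finset.sum_apply]
    exact Finset.sum_congr rfl fun ψ _ => rfl
  have hsum : ∑ ψ, m ψ * d ψ = 2 := by
    have e := happ 1
    rw [h2] at e
    simp_rw [hd] at e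
    exact_mod_cast e.symm
  have hlin : ∀ ψ, m ψ ≠ 0 → d ψ = 1 := by
    intro ψ hψ
    by_contra hd1
    have hd2 : 2 ≤ d ψ := by have := hd0 ψ; omega
    have hrest := Finset.add_sum_erase Finset.univ (fun φ => m φ * d φ) (Finset.mem_univ ψ)
    rw [hsum] at hrest
    have hm1 : 2 * m ψ ≤ m ψ * d ψ := by
      rw [mul_comm 2]; exact Nat.mul_le_mul_left _ hd2
    have hz : ∑ φ ∈ Finset.univ.erase ψ, m φ * d φ = 0 := by omega
    have hmψ : m ψ = 1 := by omega
    refine hni ?_
    have : χ = (ψ : H → ℂ) := by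
      funext g
      rw [happ g, Finset.sum_eq_single ψ]
      · rw [hmψ, Nat.cast_one, one_mul]
      · intro φ _ hne
        have h0 := (Finset.sum_eq_zero_iff.1 hz) φ (Finset.mem_erase.2 ⟨hne, Finset.mem_univ φ⟩)
        rcases Nat.mul_eq_zero.1 h0 with h | h
        · rw [h, Nat.cast_zero, zero_mul]
        · exact absurd h (hd0 φ).ne'
      · simp
    rw [this]
    exact ψ.2
  refine eq_of_comm_eq_one (hfaith _ ?_)
  rw [happ, happ]
  refine Finset.sum_congr rfl fun ψ _ => ?_
  by_cases hψ : m ψ = 0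
  · rw [hψ, Nat.cast_zero, zero_mul, zero_mul]
  · obtain ⟨f, hf⟩ := CharCore.IsCharacter.exists_hom_of_degree_one (CharCore.irr_isCharacter ψ)
      (by rw [hd ψ, hlin ψ hψ, Nat.cast_one])
    have e1 : (ψ : H → ℂ) (a * b * a⁻¹ * b⁻¹) = 1 := by
      rw [hf]; exact congrArg Units.val (hom_comm_eq_one f a b)
    have e2 : (ψ : H → ℂ) 1 = 1 := by rw [hd ψ, hlin ψ hψ, Nat.cast_one]
    rw [e1, e2]

/-- A faithful character of degree two induced from a proper subgroup: the subgroup is abelian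
of index two. -/
theorem comm_of_ind [Fintype H] {χ : H → ℂ} (h2 : χ 1 = 2)
    (hfaith : ∀ g : H, χ g = χ 1 → g = 1) (T : Subgroup H) (hT : T ≠ ⊤) {θ : T → ℂ}
    (hθ : IsCharacter T θ) (hind : χ = indFun T θ) :
    IsMulCommutative T ∧ T.index = 2 := by
  classical
  obtain ⟨d, hd⟩ := CharCore.IsCharacter.exists_degree hθ
  have he : T.index * d = 2 := by
    have e := congrFun hind 1
    rw [h2, CharInd.indFun_apply_one, hd] at e
    exact_mod_cast e.symm
  have hne1 : T.index ≠ 1 := fun h => hT (Subgroup.index_eq_one.1 h)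
  have hidx : T.index = 2 := by
    rcases (Nat.dvd_prime Nat.prime_two).1 (Dvd.intro d he) with h | h
    · exact absurd h hne1
    · exact h
  have hd1 : d = 1 := by rw [hidx] at he; omega
  haveI := Subgroup.normal_of_index_eq_two hidx
  obtain ⟨f, hf⟩ := CharCore.IsCharacter.exists_hom_of_degree_one hθ
    (by rw [hd, hd1, Nat.cast_one])
  refine ⟨⟨⟨fun a b => ?_⟩⟩, hidx⟩
  refine eq_of_comm_eq_one (Subtype.ext (hfaith _ ?_))
  letI := Fintype.ofFinite (H ⧸ T)
  have hcl : IsClassFunction T θ := CharCore.IsCharacter.isClassFunction hθ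
  rw [hind, CharInd.indFun_apply_cosets hcl Quotient.out QuotientGroup.out_eq',
    CharInd.indFun_apply_cosets hcl Quotient.out QuotientGroup.out_eq']
  refine Finset.sum_congr rfl fun q _ => ?_
  set r : H := Quotient.out q with hr
  let c : T → T := fun t => ⟨r⁻¹ * t * r, by
    simpa using Subgroup.Normal.conj_mem ‹T.Normal› (t : H) t.2 r⁻¹⟩
  have hc : ∀ s t : T, c (s * t) = c s * c t := fun s t => by
    apply Subtype.ext
    simp only [c, Subgroup.coe_mul]
    group
  have hc1 : c 1 = 1 := by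
    apply Subtype.ext
    simp [c]
  have hci : ∀ s : T, c s⁻¹ = (c s)⁻¹ := fun s => by
    apply Subtype.ext
    simp only [c, Subgroup.coe_inv]
    group
  rw [CharInd.extendByZero_mem θ (c (a * b * a⁻¹ * b⁻¹)).2,
    CharInd.extendByZero_mem θ (g := r⁻¹ * 1 * r) (by simp)]
  have e : (⟨r⁻¹ * 1 * r, by simp⟩ : T) = 1 := by
    apply Subtype.ext
    simp
  rw [e]
  show θ (c (a * b * a⁻¹ * b⁻¹)) = θ 1
  rw [hc, hc, hc, hci, hci, hf]
  show ((f (c a * c b * (c a)⁻¹ * (c b)⁻¹) : ℂˣ) : ℂ) = _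
  rw [hom_comm_eq_one]
  simp

/-- The shapes of a group with a faithful character of degree two. -/
theorem main [Finite H] (χ : H → ℂ) (hc : IsCharacter H χ) (hdeg : charDegree χ = 2)
    (hfaith : ∀ g : H, χ g = χ 1 → g = 1) : TwoShape H := by
  classical
  letI := Fintype.ofFinite H
  have h2 : χ 1 = 2 := by
    obtain ⟨d, hd⟩ := CharCore.IsCharacter.exists_degree hc
    rw [charDegree, hd, Complex.natCast_re, Nat.floor_natCast] at hdeg
    rw [hd, hdeg]
    norm_num
  by_cases hirr : IsIrrCharacter H χ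
  swap
  · exact Or.inl ⟨⊤, ⟨⟨fun a b => Subtype.ext (comm_of_not_irr hc h2 hfaith hirr a b)⟩⟩,
      by rw [Subgroup.index_top]; norm_num⟩
  by_cases hprim : ∀ T : Subgroup H, T ≠ ⊤ → ∀ θ : T → ℂ, IsCharacter T θ → χ ≠ indFun T θ
  swap
  · push Not at hprim
    obtain ⟨T, hT, θ, hθ, hind⟩ := hprim
    obtain ⟨hab, hidx⟩ := comm_of_ind h2 hfaith T hT hθ hind
    exact Or.inl ⟨T, hab, hidx.le⟩
  have hidx := BlkChar.DegTwo.index_center_of_primitive ⟨χ, hirr⟩ hfaith h2 hprim
  obtain ⟨n, ρ, hρirr, hρ⟩ := hirr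
  haveI := hρirr
  subst hρ
  have hn : n = 2 := by
    have h1 : ρ.character 1 = (n : ℂ) := by simp
    rw [h2] at h1
    exact_mod_cast h1.symm
  subst hn
  let R : H →* Matrix (Fin 2) (Fin 2) ℂ :=
    (LinearMap.toMatrixAlgEquiv' (R := ℂ) (n := Fin 2)).toRingEquiv.toMonoidHom.comp ρ
  have hRinj : Function.Injective R := by
    rw [injective_iff_map_eq_one]
    intro g hg
    have hg' : ρ g = 1 := (LinearMap.toMatrixAlgEquiv' (R := ℂ) (n := Fin 2)).injective
      (hg.trans (map_one _).symm)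
    refine hfaith g ?_
    simp only [Representation.character, hg', map_one]
  by_cases hA : ∀ A : Subgroup H, A.Normal → IsMulCommutative A → A ≤ Subgroup.center H
  · refine Or.inr ⟨hidx, fun g z hz hconj => ?_, hA⟩
    obtain ⟨s, hs⟩ := CharClifford.exists_scalar_of_mem_center ρ hz
    have hsR : R z = s • (1 : Matrix (Fin 2) (Fin 2) ℂ) := by
      show LinearMap.toMatrixAlgEquiv' (ρ z) = _
      rw [hs, map_smul, map_one]
    obtain ⟨c, hcg⟩ := isConj_iff.1 hconj
    have hu : ∀ x : H, (R x).det ≠ 0 := fun x =>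
      (((Group.isUnit x).map R).map
        (Matrix.detMonoidHom : Matrix (Fin 2) (Fin 2) ℂ →* ℂ)).ne_zero
    have hdet : (R g).det = (R g).det * s ^ 2 := by
      have e := congrArg (fun x => (R x).det) hcg
      simp only [map_mul, Matrix.det_mul] at e
      have hcc : (R c).det * (R c⁻¹).det = 1 := by
        rw [← Matrix.det_mul, ← map_mul, mul_inv_cancel, map_one, Matrix.det_one]
      rw [hsR, Matrix.det_smul, Matrix.det_one, mul_one, Fintype.card_fin] at e
      rw [← e, mul_comm (R c).det, mul_assoc, hcc, mul_one]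
    have hs2 : s * s = 1 := by
      have := mul_left_cancel₀ (hu g) ((mul_one _).trans hdet)
      rw [← sq]
      exact this.symm
    apply hRinj
    rw [map_mul, map_one, hsR, smul_mul_smul_comm, mul_one, hs2, one_smul]
  · push Not at hA
    obtain ⟨A, hAn, hAc, hAle⟩ := hA
    haveI := hAn
    obtain ⟨T, W, hW, -, -, -, htop, -, hchar⟩ := CharInd.exists_induced_of_abelian_normal ρ A
      (fun a ha b hb =>
        congrArg Subtype.val (hAc.is_comm.comm (⟨a, ha⟩ : A) (⟨b, hb⟩ : A)))
    have hT : T ≠ ⊤ := by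
      intro h
      refine hAle fun a ha => ?_
      obtain ⟨c, hc⟩ := htop h a ha
      have hca : ρ a = c • 1 := LinearMap.ext fun v => hc v
      refine Subgroup.mem_center_iff.2 fun g => hRinj ?_
      show LinearMap.toMatrixAlgEquiv' (ρ (g * a)) = LinearMap.toMatrixAlgEquiv' (ρ (a * g))
      simp only [map_mul, hca, map_smul, map_one, mul_smul_comm, smul_mul_assoc, mul_one, one_mul]
    obtain ⟨hab, hidx2⟩ := comm_of_ind h2 hfaith T hT
      (CharCore.isCharacter_character (CharInd.restRep ρ T W hW)) hchar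
    exact Or.inl ⟨T, hab, hidx2.le⟩

end Shape

universe u

/-- Piece SHAPE. -/
theorem shape : ShapeStmt.{u} :=
  fun _ _ _ χ hc hdeg hf => Shape.main χ hc hdeg hf

end Cfsg.Agent.OneClass35
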