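import Cfsg.Agent.OneClass35.Defs
import Cfsg.Agent.FPFStructure.Solvable120
import Cfsg.Agent.Char2x2.Conj
import Cfsg.Agent.Lib.Solvable.Hall
import Cfsg.Agent.S0016
import Cfsg.Agent.FGS76.Basic

/-!
# S4878: dimension two
-/

set_option autoImplicit false
set_option linter.style.haveILetI false
set_option linter.unusedSectionVars false

namespace Cfsg.Agent.OneClass35

open Subgroup

universe u

namespace Two

section Lin

variable {H : Type u} [Group H] [Finite H] {p : ℕ} [Fact p.Prime]
  {ρ : H →* GL (Fin 2) (ZMod p)}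

/-- The matrix of `h`. -/
def mat (ρ : H →* GL (Fin 2) (ZMod p)) (h : H) : Matrix (Fin 2) (Fin 2) (ZMod p) := ρ h

theorem mat_mul (a b : H) : mat ρ (a * b) = mat ρ a * mat ρ b := by simp [mat]

theorem eq_of_mat (ht : IsTransLin ρ) {a b : H}
    (h : ∀ v, (mat ρ a).mulVec v = (mat ρ b).mulVec v) : a = b :=
  ht.inj (Units.ext (Matrix.toLin'.injective (LinearMap.ext fun v => by simpa [mat] using h v)))

theorem central_eq_one (ht : IsTransLin ρ) {z : H} (hz : z ∈ center H) {v : Fin 2 → ZMod p}
    (hv : v ≠ 0) (hfix : (mat ρ z).mulVec v = v) : z = 1 := by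
  refine eq_of_mat ht fun w => ?_
  rw [show mat ρ (1 : H) = 1 by simp [mat], Matrix.one_mulVec]
  by_cases hw : w = 0
  · simp [hw]
  obtain ⟨g, rfl⟩ := ht.trans v w hv hw
  change (mat ρ z).mulVec ((mat ρ g).mulVec v) = (mat ρ g).mulVec v
  rw [Matrix.mulVec_mulVec, ← mat_mul, ← mem_center_iff.mp hz g, mat_mul, ← Matrix.mulVec_mulVec,
    hfix]

theorem mulVec_eq_neg {t : H} (h2 : t * t = 1)
    (hfree : ∀ v : Fin 2 → ZMod p, v ≠ 0 → (mat ρ t).mulVec v ≠ v) (v : Fin 2 → ZMod p) :
    (mat ρ t).mulVec v = -v := by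
  have hu : (mat ρ t).mulVec ((mat ρ t).mulVec v + v) = (mat ρ t).mulVec v + v := by
    rw [Matrix.mulVec_add, Matrix.mulVec_mulVec, ← mat_mul, h2]
    simp [mat, add_comm]
  by_contra hne
  exact hfree _ (fun h => hne (eq_neg_of_add_eq_zero_left h)) hu

theorem central_invol (ht : IsTransLin ρ) {z y : H} (hz : z ∈ center H) (hy : y ∈ center H)
    (hz2 : z * z = 1) (hy2 : y * y = 1) (hz1 : z ≠ 1) (hy1 : y ≠ 1) : z = y :=
  eq_of_mat ht fun v => by
    rw [mulVec_eq_neg hz2 (fun v hv h => hz1 (central_eq_one ht hz hv h)),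
      mulVec_eq_neg hy2 (fun v hv h => hy1 (central_eq_one ht hy hv h))]

/-- Orbit counting. -/
theorem card_eq (ht : IsTransLin ρ) {v : Fin 2 → ZMod p} (hv : v ≠ 0) :
    ∃ S : Subgroup H, (∀ h, h ∈ S ↔ (mat ρ h).mulVec v = v) ∧
      Nat.card H = (p ^ 2 - 1) * Nat.card ↥S := by
  classical
  letI : MulAction H (Fin 2 → ZMod p) :=
    { smul := fun h w => (mat ρ h).mulVec w
      one_smul := fun w => by
        show (mat ρ 1).mulVec w = w
        simp [mat]
      mul_smul := fun a b w => by
        show (mat ρ (a * b)).mulVec w = (mat ρ a).mulVec ((mat ρ b).mulVec w)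
        rw [Matrix.mulVec_mulVec, mat_mul] }
  refine ⟨MulAction.stabilizer H v, fun h => Iff.rfl, ?_⟩
  rw [← (MulAction.stabilizer H v).index_mul_card, MulAction.index_stabilizer]
  congr 1
  have : MulAction.orbit H v = {(0 : Fin 2 → ZMod p)}ᶜ := by
    ext w
    refine ⟨?_, fun hw => ht.trans v w hv hw⟩
    rintro ⟨g, rfl⟩ h1
    have h2 : g⁻¹ • g • v = g⁻¹ • (0 : Fin 2 → ZMod p) := congrArg (fun u => g⁻¹ • u) h1
    rw [inv_smul_smul] at h2
    exact hv (h2.trans (Matrix.mulVec_zero _))
  rw [this, Set.ncard_compl, Set.ncard_singleton, Nat.card_fun, Nat.card_zmod, Nat.card_eq_fintype_card,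
    Fintype.card_fin]

theorem dvd_card (ht : IsTransLin ρ) : p ^ 2 - 1 ∣ Nat.card H := by
  obtain ⟨S, -, hS⟩ := card_eq ht (v := fun _ => 1) (fun h => one_ne_zero (congrFun h 0))
  exact ⟨_, hS⟩

/-- In the regular case the only involution is the central `-1`. -/
theorem invol_mem_center (ht : IsTransLin ρ) (hreg : Nat.card H = p ^ 2 - 1) {t : H}
    (h2 : t * t = 1) (h1 : t ≠ 1) : t ∈ center H := by
  have hfree : ∀ v : Fin 2 → ZMod p, v ≠ 0 → (mat ρ t).mulVec v ≠ v := by
    intro v hv h
    obtain ⟨S, hS, hc⟩ := card_eq ht hv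
    have hpos : 0 < Nat.card H := Nat.card_pos
    have hbot : S = ⊥ := by
      rw [← card_eq_one]
      rw [hreg] at hc hpos
      exact Nat.eq_of_mul_eq_mul_left hpos (by rw [← hc, mul_one])
    have : t ∈ S := (hS t).mpr h
    rw [hbot, mem_bot] at this
    exact h1 this
  rw [mem_center_iff]
  intro g
  refine eq_of_mat ht fun v => ?_
  rw [mat_mul, mat_mul, ← Matrix.mulVec_mulVec, ← Matrix.mulVec_mulVec, mulVec_eq_neg h2 hfree,
    mulVec_eq_neg h2 hfree, Matrix.mulVec_neg]

end Lin

section Count

variable {G : Type u} [Group G] [Finite G]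

theorem carrier_mul_centralizer (x : G) :
    (ConjClasses.mk x).carrier.ncard * Nat.card (centralizer ({x} : Set G)) = Nat.card G := by
  rw [FGS76.ncard_carrier, index_mul_card]

theorem commutative_le_two (A : Subgroup G) (hA : IsMulCommutative A) (hidx : A.index ≤ 2) :
    Nat.card ↥A ≤ 2 * Nat.card (ConjClasses G) := by
  classical
  haveI := Fintype.ofFinite ↥A
  haveI := Fintype.ofFinite (ConjClasses G)
  rw [Nat.card_eq_fintype_card, Nat.card_eq_fintype_card, ← Finset.card_univ, ← Finset.card_univ]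
  refine Finset.card_le_mul_card_image (f := fun a : ↥A => ConjClasses.mk (a : G)) _ 2
    (fun c _ => ?_) |>.trans (Nat.mul_le_mul_left 2 (Finset.card_le_univ _))
  obtain ⟨a, rfl⟩ | hc := em (∃ a : ↥A, ConjClasses.mk (a : G) = c)
  · have hle : A ≤ centralizer ({(a : G)} : Set G) := fun b hb =>
      mem_centralizer_singleton_iff.mpr (congrArg Subtype.val (hA.is_comm.comm ⟨b, hb⟩ a))
    have h1 := carrier_mul_centralizer (a : G)
    have h2 : Nat.card ↥A ≤ Nat.card (centralizer ({(a : G)} : Set G)) := card_le_of_le hle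
    have h3 : (ConjClasses.mk (a : G)).carrier.ncard ≤ 2 := by
      have h4 := A.index_mul_card
      have : 0 < Nat.card ↥A := Nat.card_pos
      nlinarith
    refine le_trans ?_ h3
    rw [Set.ncard_eq_toFinset_card _ (Set.toFinite _)]
    refine Finset.card_le_card_of_injOn (fun b : ↥A => (b : G)) ?_ (fun _ _ _ _ h => Subtype.ext h)
    intro b hb
    simp only [Finset.coe_filter, Finset.mem_univ, true_and, Set.mem_ofPred_eq] at hb
    simpa [ConjClasses.mem_carrier_iff_mk_eq] using hb
  · rw [Finset.filter_false_of_mem fun b _ h => hc ⟨b, h⟩]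
    simp

/-- The classes containing an element of odd order. -/
abbrev OddClass (Q : Type u) [Group Q] : Type u :=
  {c : ConjClasses Q // ∃ x, ConjClasses.mk x = c ∧ Odd (orderOf x)}

theorem exists_odd_lift {Q : Type u} [Group Q] (π : G →* Q) (hπ : Function.Surjective π) {x : Q}
    (hx : Odd (orderOf x)) : ∃ g : G, π g = x ∧ Odd (orderOf g) := by
  obtain ⟨g, rfl⟩ := hπ x
  obtain ⟨a, m, hm, hgm⟩ := Nat.exists_eq_pow_mul_and_not_dvd (orderOf_pos g).ne' 2 (by norm_num)
  obtain ⟨i, hi⟩ := exists_pow_eq_self_of_coprime (x := π g) (n := 2 ^ a)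
    ((Nat.coprime_two_left.mpr hx).pow_left a)
  refine ⟨(g ^ 2 ^ a) ^ i, by rw [map_pow, map_pow, hi], ?_⟩
  have : orderOf ((g ^ 2 ^ a) ^ i) ∣ m := by
    refine (orderOf_pow_dvd i).trans (orderOf_dvd_of_pow_eq_one ?_)
    rw [← pow_mul, ← hgm, pow_orderOf_eq_one]
  exact (Nat.odd_iff.mpr (by omega : m % 2 = 1)).of_dvd_nat this

theorem classes_lower
    (hZ : ∀ g z : G, z ∈ center G → IsConj g (g * z) → z * z = 1)
    (hinv : ∀ z y : G, z ∈ center G → y ∈ center G → z * z = 1 → y * y = 1 → z ≠ 1 → y ≠ 1 → z = y) :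
    Nat.card (center G) *
      (Nat.card (ConjClasses (G ⧸ center G)) + Nat.card (OddClass (G ⧸ center G))) ≤
      2 * Nat.card (ConjClasses G) := by
  classical
  let π := QuotientGroup.mk' (center G)
  have hπ : Function.Surjective π := QuotientGroup.mk'_surjective _
  let f : ConjClasses G → ConjClasses (G ⧸ center G) := ConjClasses.map π
  haveI := Fintype.ofFinite (ConjClasses G)
  haveI := Fintype.ofFinite (ConjClasses (G ⧸ center G))
  haveI := Fintype.ofFinite ↥(center G)
  let odd : ConjClasses (G ⧸ center G) → Prop := fun c => ∃ x, ConjClasses.mk x = c ∧ Odd (orderOf x)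
  have key : ∀ c : ConjClasses (G ⧸ center G),
      Nat.card (center G) * (1 + if odd c then 1 else 0) ≤
        2 * (Finset.univ.filter fun d => f d = c).card := by
    intro c
    have main : ∀ (g : G) (b : ℕ), ConjClasses.mk (π g) = c →
        (∀ z : ↥(center G), (Finset.univ.filter fun y : ↥(center G) =>
          IsConj (g * (y : G)) (g * (z : G))).card ≤ b) →
        Nat.card (center G) ≤ b * (Finset.univ.filter fun d => f d = c).card := by
      intro g b hg hb
      rw [Nat.card_eq_fintype_card, ← Finset.card_univ]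
      refine (Finset.card_le_mul_card_image (f := fun y : ↥(center G) => ConjClasses.mk (g * (y : G)))
        _ b fun d hd => ?_).trans (Nat.mul_le_mul_left b (Finset.card_le_card fun d hd => ?_))
      · obtain ⟨z, -, rfl⟩ := Finset.mem_image.mp hd
        refine le_trans (le_of_eq ?_) (hb z)
        simp only [ConjClasses.mk_eq_mk_iff_isConj]
      · obtain ⟨z, -, rfl⟩ := Finset.mem_image.mp hd
        simp only [Finset.mem_filter, Finset.mem_univ, true_and]
        show ConjClasses.mk (π (g * z)) = c
        rw [map_mul, show π (z : G) = 1 from (QuotientGroup.eq_one_iff _).mpr z.2, mul_one, hg]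
    have conjz : ∀ (g : G) (y z : ↥(center G)), IsConj (g * (y : G)) (g * (z : G)) →
        ((y⁻¹ * z : ↥(center G)) : G) * ((y⁻¹ * z : ↥(center G)) : G) = 1 := by
      intro g y z h
      refine hZ (g * y) _ (y⁻¹ * z).2 ?_
      simpa [mul_assoc] using h
    by_cases hc : odd c
    · rw [if_pos hc]
      obtain ⟨x, rfl, hx⟩ := hc
      obtain ⟨g, rfl, hg⟩ := exists_odd_lift π hπ hx
      have := main g 1 rfl fun z => Finset.card_le_one.mpr fun a ha b hb => ?_
      · omega
      simp only [Finset.mem_filter, Finset.mem_univ, true_and] at ha hb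
      have hab : IsConj (g * (a : G)) (g * (b : G)) := ha.trans hb.symm
      by_contra hne
      set w : G := ((a⁻¹ * b : ↥(center G)) : G) with hw
      have hw1 : w ≠ 1 := fun h => hne (inv_mul_eq_one.mp (Subtype.ext h))
      have hw2 : w * w = 1 := conjz g a b hab
      obtain ⟨u, hu⟩ := isConj_iff.mp hab
      have hu' : u * g * u⁻¹ = g * w := by
        have hca : ∀ s, s * (a : G) = (a : G) * s := fun s => (mem_center_iff.mp a.2 s)
        calc u * g * u⁻¹ = u * (g * (a : G)) * u⁻¹ * (a : G)⁻¹ := by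
              rw [← mul_assoc u g, mul_assoc (u * g), ← hca, ← mul_assoc]
              group
          _ = g * (b : G) * (a : G)⁻¹ := by rw [hu]
          _ = g * w := by
              rw [hw, Subgroup.coe_mul, Subgroup.coe_inv, mul_assoc,
                mem_center_iff.mp (inv_mem a.2) (b : G)]
      have ho : orderOf g = orderOf (g * w) := by
        rw [← hu']
        exact (orderOf_injective (MulAut.conj u).toMonoidHom (MulAut.conj u).injective g).symm
      have hgw : (g * w) ^ orderOf g = 1 := by rw [ho]; exact pow_orderOf_eq_one _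
      rw [Commute.mul_pow (mem_center_iff.mp (a⁻¹ * b).2 g), pow_orderOf_eq_one, one_mul] at hgw
      obtain ⟨k, hk⟩ := hg
      rw [hk, pow_succ, pow_mul, pow_two, ← hw, hw2, one_pow, one_mul] at hgw
      exact hw1 hgw
    · rw [if_neg hc]
      obtain ⟨x, rfl⟩ := ConjClasses.exists_rep c
      obtain ⟨g, rfl⟩ := hπ x
      have := main g 2 rfl fun z => ?_
      · simpa using this
      refine le_trans (Finset.card_le_card_of_injOn (fun y : ↥(center G) => y⁻¹ * z) ?_
        (fun _ _ _ _ h => inv_injective (mul_right_cancel h))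
        (t := Finset.univ.filter fun w : ↥(center G) => (w : G) * w = 1)) ?_
      · intro y hy
        simp only [Finset.coe_filter, Finset.mem_univ, true_and, Set.mem_ofPred_eq] at hy ⊢
        exact conjz g y z hy
      · have h1 : (1 : ↥(center G)) ∈ Finset.univ.filter fun w : ↥(center G) => (w : G) * w = 1 := by
          simp
        rw [← Finset.card_erase_add_one h1]
        refine Nat.succ_le_succ (Finset.card_le_one.mpr fun a ha b hb => ?_)
        simp only [Finset.mem_erase, Finset.mem_filter, Finset.mem_univ, true_and] at ha hb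
        exact Subtype.ext (hinv a b a.2 b.2 ha.2 hb.2 (fun h => ha.1 (Subtype.ext h))
          (fun h => hb.1 (Subtype.ext h)))
  have hsum := Finset.sum_le_sum (s := Finset.univ) fun c _ => key c
  rw [← Finset.mul_sum, Finset.sum_add_distrib, Finset.sum_const, smul_eq_mul, mul_one,
    ← Finset.mul_sum, Finset.sum_boole,
    ← Finset.card_eq_sum_card_fiberwise (fun d _ => Finset.mem_univ (f d))] at hsum
  simpa [Nat.card_eq_fintype_card, Fintype.card_subtype, OddClass, odd] using hsum

theorem le_card_classes {s : Finset G} (h : ∀ x ∈ s, ∀ y ∈ s, IsConj x y → x = y) :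
    s.card ≤ Nat.card (ConjClasses G) := by
  haveI := Fintype.ofFinite (ConjClasses G)
  rw [Nat.card_eq_fintype_card]
  exact Finset.card_le_card_of_injOn ConjClasses.mk (fun _ _ => Finset.mem_univ _)
    fun x hx y hy he => h x hx y hy (ConjClasses.mk_eq_mk_iff_isConj.mp he)

theorem le_card_odd {s : Finset G} (ho : ∀ x ∈ s, Odd (orderOf x))
    (h : ∀ x ∈ s, ∀ y ∈ s, IsConj x y → x = y) : s.card ≤ Nat.card (OddClass G) := by
  classical
  haveI := Fintype.ofFinite (ConjClasses G)
  rw [Nat.card_eq_fintype_card, Fintype.card_subtype]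
  refine Finset.card_le_card_of_injOn ConjClasses.mk (fun x hx => ?_)
    fun x hx y hy he => h x hx y hy (ConjClasses.mk_eq_mk_iff_isConj.mp he)
  simp only [Finset.coe_filter, Finset.mem_univ, true_and, Set.mem_ofPred_eq]
  exact ⟨x, rfl, ho x hx⟩

theorem orderOf_eq_of_isConj {x y : G} (h : IsConj x y) : orderOf x = orderOf y := by
  obtain ⟨c, rfl⟩ := isConj_iff.mp h
  exact (orderOf_injective (MulAut.conj c).toMonoidHom (MulAut.conj c).injective x).symm

theorem counts_three (h6 : 6 ∣ Nat.card G) :
    3 ≤ Nat.card (ConjClasses G) ∧ 2 ≤ Nat.card (OddClass G) := by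
  classical
  haveI : Fact (Nat.Prime 2) := ⟨Nat.prime_two⟩
  haveI : Fact (Nat.Prime 3) := ⟨Nat.prime_three⟩
  obtain ⟨a, ha⟩ := exists_prime_orderOf_dvd_card' (G := G) 2 ((by norm_num : (2:ℕ) ∣ 6).trans h6)
  obtain ⟨b, hb⟩ := exists_prime_orderOf_dvd_card' (G := G) 3 ((by norm_num : (3:ℕ) ∣ 6).trans h6)
  have ha1 : a ≠ 1 := fun h => by rw [h, orderOf_one] at ha; omega
  have hb1 : b ≠ 1 := fun h => by rw [h, orderOf_one] at hb; omega
  have hab : a ≠ b := fun h => by rw [h, hb] at ha; omega
  constructor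
  · refine le_trans (le_of_eq ?_) (le_card_classes (s := {1, a, b}) ?_)
    · rw [Finset.card_insert_of_notMem (by simp [ha1.symm, hb1.symm]), Finset.card_pair hab]
    · intro x hx y hy hxy
      have := orderOf_eq_of_isConj hxy
      simp only [Finset.mem_insert, Finset.mem_singleton] at hx hy
      rcases hx with rfl | rfl | rfl <;> rcases hy with rfl | rfl | rfl <;> simp_all
  · refine le_trans (le_of_eq ?_) (le_card_odd (s := {1, b}) ?_ ?_)
    · rw [Finset.card_pair hb1.symm]
    · intro x hx
      simp only [Finset.mem_insert, Finset.mem_singleton] at hx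
      rcases hx with rfl | rfl
      · simp
      · rw [hb]; decide
    · intro x hx y hy hxy
      have := orderOf_eq_of_isConj hxy
      simp only [Finset.mem_insert, Finset.mem_singleton] at hx hy
      rcases hx with rfl | rfl <;> rcases hy with rfl | rfl <;> simp_all

theorem counts_sixty (h30 : 30 ∣ Nat.card G) :
    4 ≤ Nat.card (ConjClasses G) ∧ 3 ≤ Nat.card (OddClass G) := by
  classical
  haveI : Fact (Nat.Prime 2) := ⟨Nat.prime_two⟩
  haveI : Fact (Nat.Prime 3) := ⟨Nat.prime_three⟩
  haveI : Fact (Nat.Prime 5) := ⟨by norm_num⟩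
  obtain ⟨a, ha⟩ := exists_prime_orderOf_dvd_card' (G := G) 2 ((by norm_num : (2:ℕ) ∣ 30).trans h30)
  obtain ⟨b, hb⟩ := exists_prime_orderOf_dvd_card' (G := G) 3 ((by norm_num : (3:ℕ) ∣ 30).trans h30)
  obtain ⟨c, hc⟩ := exists_prime_orderOf_dvd_card' (G := G) 5 ((by norm_num : (5:ℕ) ∣ 30).trans h30)
  have ha1 : a ≠ 1 := fun h => by rw [h, orderOf_one] at ha; omega
  have hb1 : b ≠ 1 := fun h => by rw [h, orderOf_one] at hb; omega
  have hc1 : c ≠ 1 := fun h => by rw [h, orderOf_one] at hc; omega
  have hab : a ≠ b := fun h => by rw [h, hb] at ha; omega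
  have hac : a ≠ c := fun h => by rw [h, hc] at ha; omega
  have hbc : b ≠ c := fun h => by rw [h, hc] at hb; omega
  constructor
  · refine le_trans (le_of_eq ?_) (le_card_classes (s := {1, a, b, c}) ?_)
    · rw [Finset.card_insert_of_notMem (by simp [ha1.symm, hb1.symm, hc1.symm]),
        Finset.card_insert_of_notMem (by simp [hab, hac]), Finset.card_pair hbc]
    · intro x hx y hy hxy
      have := orderOf_eq_of_isConj hxy
      simp only [Finset.mem_insert, Finset.mem_singleton] at hx hy
      rcases hx with rfl | rfl | rfl | rfl <;> rcases hy with rfl | rfl | rfl | rfl <;> simp_all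
  · refine le_trans (le_of_eq ?_) (le_card_odd (s := {1, b, c}) ?_ ?_)
    · rw [Finset.card_insert_of_notMem (by simp [hb1.symm, hc1.symm]), Finset.card_pair hbc]
    · intro x hx
      simp only [Finset.mem_insert, Finset.mem_singleton] at hx
      rcases hx with rfl | rfl | rfl
      · simp
      · rw [hb]; decide
      · rw [hc]; decide
    · intro x hx y hy hxy
      have := orderOf_eq_of_isConj hxy
      simp only [Finset.mem_insert, Finset.mem_singleton] at hx hy
      rcases hx with rfl | rfl | rfl <;> rcases hy with rfl | rfl | rfl <;> simp_all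

theorem counts_twentyfour (h24 : Nat.card G = 24) : 5 ≤ Nat.card (ConjClasses G) := by
  classical
  haveI : Fact (Nat.Prime 2) := ⟨Nat.prime_two⟩
  haveI := Fintype.ofFinite G
  haveI := Fintype.ofFinite (ConjClasses G)
  have hclass : ∀ x : G, x ≠ 1 → (ConjClasses.mk x).carrier.ncard ≤
      if 2 ∣ orderOf x then 6 else 8 := by
    intro x hx
    have h1 := carrier_mul_centralizer x
    rw [h24] at h1
    set C := centralizer ({x} : Set G)
    have hxC : x ∈ C := mem_centralizer_singleton_iff.mpr rfl
    have hd := orderOf_dvd_natCard C hxC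
    have hpos : 0 < Nat.card C := Nat.card_pos
    have ho : orderOf x ≠ 1 := fun h => hx (orderOf_eq_one_iff.mp h)
    have hle := Nat.le_of_dvd hpos hd
    have hop := orderOf_pos x
    split_ifs with h2
    · suffices 4 ≤ Nat.card C by nlinarith
      by_contra hlt
      have hC2 : Nat.card C = 2 := by
        have := h2.trans hd
        omega
      have hox : orderOf x = 2 := by omega
      obtain ⟨P, hP⟩ := (IsPGroup.of_card (p := 2) (n := 1)
        (show Nat.card (zpowers x) = 2 ^ 1 by rw [Nat.card_zpowers, hox, pow_one])).exists_le_sylow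
      have hxP : x ∈ (P : Subgroup G) := hP (mem_zpowers x)
      have hP8 : Nat.card (P : Subgroup G) = 8 := by
        rw [P.card_eq_multiplicity, h24, show (24 : ℕ) = 2 ^ 3 * 3 from rfl,
          Nat.factorization_mul (by norm_num) (by norm_num), Finsupp.add_apply,
          Nat.Prime.factorization_pow Nat.prime_two, Finsupp.single_eq_same,
          Nat.factorization_eq_zero_of_not_dvd (by norm_num)]
        norm_num
      haveI : Nontrivial ↥(P : Subgroup G) := Finite.one_lt_card_iff_nontrivial.mp (by omega)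
      haveI := P.isPGroup'.center_nontrivial
      obtain ⟨z, hz⟩ := exists_ne (1 : center ↥(P : Subgroup G))
      have hzG : ∀ s ∈ (P : Subgroup G), s * ((z : ↥(P : Subgroup G)) : G) = (z : ↥(P : Subgroup G)) * s :=
        fun s hs => congrArg Subtype.val (mem_center_iff.mp z.2 ⟨s, hs⟩)
      have hzC : ((z : ↥(P : Subgroup G)) : G) ∈ C :=
        mem_centralizer_singleton_iff.mpr (hzG x hxP).symm
      have hC : C = zpowers x := (eq_of_le_of_card_ge (zpowers_le.mpr hxC)
        (by rw [Nat.card_zpowers, hox, hC2])).symm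
      rw [hC] at hzC
      obtain ⟨i, hi⟩ := mem_zpowers_iff.mp hzC
      have hx2 : x ^ (2 : ℤ) = 1 := by
        rw [show (2 : ℤ) = ((2 : ℕ) : ℤ) from rfl, zpow_natCast, ← hox, pow_orderOf_eq_one]
      rcases Int.even_or_odd i with ⟨r, rfl⟩ | ⟨r, rfl⟩
      · rw [← two_mul, zpow_mul, hx2, one_zpow] at hi
        exact hz (Subtype.ext (Subtype.ext hi.symm))
      · rw [zpow_add, zpow_mul, hx2, one_zpow, one_mul, zpow_one] at hi
        have hPC : (P : Subgroup G) ≤ C := fun s hs =>
          mem_centralizer_singleton_iff.mpr (by rw [hi]; exact hzG s hs)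
        have := card_le_of_le hPC
        omega
    · suffices 3 ≤ Nat.card C by nlinarith
      omega
  have hsum : ∑ c : ConjClasses G, c.carrier.ncard = 24 := by
    rw [← h24, Nat.card_eq_fintype_card, ← sum_conjClasses_card_eq_card G]
    exact Finset.sum_congr rfl fun c _ => Set.ncard_eq_toFinset_card' _
  obtain ⟨a, ha⟩ := exists_prime_orderOf_dvd_card' (G := G) 2 (by rw [h24]; norm_num)
  have ha1 : a ≠ 1 := fun h => by rw [h, orderOf_one] at ha; omega
  have hne : ConjClasses.mk (1 : G) ≠ ConjClasses.mk a := fun h => ha1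
    (isConj_one_right.mp (ConjClasses.mk_eq_mk_iff_isConj.mp h.symm).symm)
  have hone : (ConjClasses.mk (1 : G)).carrier.ncard = 1 := by
    have := carrier_mul_centralizer (1 : G)
    have h2 : centralizer ({1} : Set G) = ⊤ :=
      eq_top_iff.mpr fun g _ => mem_centralizer_singleton_iff.mpr (by simp)
    rw [h2, Subgroup.card_top] at this
    nlinarith [Nat.card_pos (α := G)]
  by_contra hlt
  rw [Nat.card_eq_fintype_card] at hlt
  rw [← Finset.add_sum_erase _ _ (Finset.mem_univ (ConjClasses.mk (1 : G))),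
    ← Finset.add_sum_erase _ _ (Finset.mem_erase.mpr ⟨hne.symm, Finset.mem_univ _⟩), hone] at hsum
  have h6 := hclass a ha1
  rw [if_pos (by rw [ha])] at h6
  have h8 : ∀ c ∈ (Finset.univ.erase (ConjClasses.mk (1 : G))).erase (ConjClasses.mk a),
      c.carrier.ncard ≤ 8 := by
    intro c hc
    obtain ⟨x, rfl⟩ := ConjClasses.exists_rep c
    refine (hclass x fun h => ?_).trans (by split_ifs <;> omega)
    simp [h] at hc
  have := Finset.sum_le_card_nsmul _ _ _ h8
  rw [Finset.card_erase_of_mem (Finset.mem_erase.mpr ⟨hne.symm, Finset.mem_univ _⟩),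
    Finset.card_erase_of_mem (Finset.mem_univ _), Finset.card_univ, smul_eq_mul] at this
  omega

theorem false_of_solvable (h120 : Nat.card G = 120) (hz : Nat.card (center G) = 2)
    (hab : ∀ A : Subgroup G, A.Normal → IsMulCommutative A → A ≤ center G)
    (hs : Group.IsSolvable G) : False := by
  haveI := hs
  haveI : Fact (Nat.Prime 5) := ⟨by norm_num⟩
  obtain ⟨K, hK⟩ := Solvable.exists_hall (G := G) (m := 15) (n := 8) (by rw [h120]) (by norm_num)
  obtain ⟨Q⟩ : Nonempty (Sylow 5 ↥K) := inferInstance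
  have hQ5 : Nat.card (Q : Subgroup ↥K) = 5 := by
    rw [Q.card_eq_multiplicity, hK, show (15 : ℕ) = 5 * 3 from rfl,
      Nat.factorization_mul (by norm_num) (by norm_num), Finsupp.add_apply,
      Nat.Prime.factorization_self (by norm_num),
      Nat.factorization_eq_zero_of_not_dvd (by norm_num), add_zero, pow_one]
  haveI hQn : (Q : Subgroup ↥K).Normal := by
    have h1 : Nat.card (Sylow 5 ↥K) ∈ Nat.divisors 3 := by
      refine Nat.mem_divisors.2 ⟨?_, by norm_num⟩
      have h2 := card_mul_index (Q : Subgroup ↥K)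
      rw [hQ5, hK] at h2
      exact (show (Q : Subgroup ↥K).index = 3 by omega) ▸ Sylow.card_dvd_index Q
    have hl : ∀ m ∈ Nat.divisors 3, m % 5 = 1 → m = 1 := by decide
    haveI : Subsingleton (Sylow 5 ↥K) :=
      (Nat.card_eq_one_iff_unique.1 (hl _ h1 (card_sylow_modEq_one 5 ↥K))).1
    exact Sylow.normal_of_subsingleton Q
  set R := (Q : Subgroup ↥K).map K.subtype with hR
  have hR5 : Nat.card R = 5 := by
    rw [← hQ5]
    exact (Nat.card_congr ((Q : Subgroup ↥K).equivMapOfInjective _ K.subtype_injective).toEquiv).symm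
  have hKN : K ≤ normalizer (R : Set G) := by
    intro k hk
    rw [mem_normalizer_iff_map_conj_eq]
    refine SetLike.coe_injective (Set.eq_of_subset_of_ncard_le ?_ ?_ (Set.toFinite _))
    · rintro _ ⟨_, ⟨y, hy, rfl⟩, rfl⟩
      exact ⟨⟨k, hk⟩ * y * ⟨k, hk⟩⁻¹, hQn.conj_mem y hy _, by simp⟩
    · rw [coe_map]
      exact (Set.ncard_image_of_injective _ (MulAut.conj k).injective).ge
  obtain ⟨S, hS⟩ := (IsPGroup.of_card (p := 5) (n := 1)
    (show Nat.card R = 5 ^ 1 by rw [hR5, pow_one])).exists_le_sylow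
  have hSR : (S : Subgroup G) = R := by
    refine (eq_of_le_of_card_ge hS ?_).symm
    rw [hR5, S.card_eq_multiplicity, h120, show (120 : ℕ) = 5 * 24 from rfl,
      Nat.factorization_mul (by norm_num) (by norm_num), Finsupp.add_apply,
      Nat.Prime.factorization_self (by norm_num),
      Nat.factorization_eq_zero_of_not_dvd (by norm_num), add_zero, pow_one]
  have hdvd : Nat.card (Sylow 5 G) ∣ 8 := by
    rw [S.card_eq_index_normalizer]
    have h2 := index_dvd_of_le (hSR ▸ hKN : K ≤ normalizer ((S : Subgroup G) : Set G))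
    have h3 := K.index_mul_card
    rw [hK, h120] at h3
    rwa [show K.index = 8 by omega] at h2
  have hl : ∀ m ∈ Nat.divisors 8, m % 5 = 1 → m = 1 := by decide
  haveI : Subsingleton (Sylow 5 G) := (Nat.card_eq_one_iff_unique.1
    (hl _ (Nat.mem_divisors.2 ⟨hdvd, by norm_num⟩) (card_sylow_modEq_one 5 G))).1
  haveI hn := Sylow.normal_of_subsingleton S
  have hcy : IsCyclic ↥(S : Subgroup G) := isCyclic_of_prime_card (p := 5) (by rw [hSR, hR5])
  have := card_le_of_le (hab (S : Subgroup G) hn inferInstance)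
  rw [hSR, hR5, hz] at this
  omega

end Count

theorem sylow_quaternion {H : Type u} [Group H] [Finite H] (h120 : Nat.card H = 120)
    (hns : ¬ Group.IsSolvable H) (huniq : ∀ t y : H, t * t = 1 → y * y = 1 → t ≠ 1 → y ≠ 1 → t = y)
    (P : Sylow 2 H) : Nonempty ((P : Subgroup H) ≃* QuaternionGroup 2) := by
  haveI : Fact (Nat.Prime 2) := ⟨Nat.prime_two⟩
  have hP8 : Nat.card (P : Subgroup H) = 8 := by
    rw [P.card_eq_multiplicity, h120, show (120 : ℕ) = 2 ^ 3 * 15 from rfl,
      Nat.factorization_mul (by norm_num) (by norm_num), Finsupp.add_apply,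
      Nat.Prime.factorization_pow Nat.prime_two, Finsupp.single_eq_same,
      Nat.factorization_eq_zero_of_not_dvd (by norm_num)]
    norm_num
  have hu : ∀ A B : Subgroup ↥(P : Subgroup H), Nat.card A = 2 → Nat.card B = 2 → A = B := by
    have key : ∀ A : Subgroup ↥(P : Subgroup H), Nat.card A = 2 → ∃ t : ↥(P : Subgroup H),
        t ∈ A ∧ t ≠ 1 ∧ t * t = 1 ∧ A = zpowers t := by
      intro A hA
      obtain ⟨⟨t, htA⟩, ht⟩ := exists_prime_orderOf_dvd_card' (G := A) 2 (by rw [hA])
      rw [Subgroup.orderOf_mk] at ht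
      refine ⟨t, htA, fun h => ?_, ?_, ?_⟩
      · rw [h, orderOf_one] at ht; omega
      · rw [← pow_two]; exact orderOf_dvd_iff_pow_eq_one.mp (by rw [ht])
      · exact (eq_of_le_of_card_ge (zpowers_le.mpr htA) (by rw [Nat.card_zpowers, ht, hA])).symm
    intro A B hA hB
    obtain ⟨a, -, ha1, ha2, rfl⟩ := key A hA
    obtain ⟨b, -, hb1, hb2, rfl⟩ := key B hB
    rw [Subtype.ext (huniq (a : H) b (congrArg Subtype.val ha2) (congrArg Subtype.val hb2)
      (fun h => ha1 (Subtype.ext h)) (fun h => hb1 (Subtype.ext h)))]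
  rcases S0016.result (G := ↥(P : Subgroup H)) 2 P.isPGroup' hu with hc | ⟨-, n, ⟨e⟩⟩
  · exfalso
    refine hns ?_
    haveI := hc
    have hmin : Nat.minFac (Nat.card H) = 2 := by rw [h120]; norm_num
    have hle := IsCyclic.isComplement' hmin hc
    set N := (MonoidHom.transferSylow P (IsCyclic.normalizer_le_centralizer hmin hc)).ker
    have hN : Nat.card N = 15 := by
      have h1 := hle.card_mul_card
      rw [hP8, h120] at h1
      omega
    refine FPFStructure.solvable_of_normal N
      (FPFStructure.isSolvable_dvd_120 (by rw [hN]; norm_num) (by omega) (by omega)) ?_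
    have h1 : Nat.card (H ⧸ N) = 8 := by
      have h2 := N.index_mul_card
      rw [hN, h120] at h2
      show N.index = 8
      omega
    exact FPFStructure.isSolvable_dvd_120 (by rw [h1]; norm_num) (by omega) (by omega)
  · have h1 := Nat.card_congr e.toEquiv
    rw [hP8, Nat.card_eq_fintype_card, QuaternionGroup.card] at h1
    have h2 : 2 ^ n = 2 ^ 1 := by omega
    obtain rfl := Nat.pow_right_injective (le_refl 2) h2
    exact ⟨e⟩

end Two

open Two in
theorem two : TwoStmt.{u} := by
  intro H _ _ p _ ρ ht hp5 hshape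
  have hdvd := dvd_card ht
  have hp : p.Prime := Fact.out
  have hp2 : 5 * p ≤ p ^ 2 := by rw [pow_two]; exact Nat.mul_le_mul_right p hp5
  rcases hshape with ⟨A, hA, hidx⟩ | ⟨hj, hconj, hab⟩
  · left
    have h1 := commutative_le_two A hA hidx
    have h2 := A.index_mul_card
    have h3 : p ^ 2 - 1 ≤ Nat.card H := Nat.le_of_dvd Nat.card_pos hdvd
    have h4 : A.index * Nat.card ↥A ≤ 2 * Nat.card ↥A := Nat.mul_le_mul_right _ hidx
    omega
  set z := Nat.card (center H) with hzdef
  have hzpos : 0 < z := Nat.card_pos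
  have hcard : Nat.card H = (center H).index * z := ((center H).index_mul_card).symm
  have hlow := classes_lower hconj fun z y hz hy => central_invol ht hz hy
  rw [← hzdef] at hlow
  have hQ : Nat.card (H ⧸ center H) = (center H).index := rfl
  have hle : p ^ 2 - 1 ≤ Nat.card H := Nat.le_of_dvd Nat.card_pos hdvd
  rcases hj with hj | hj | hj
  · left
    obtain ⟨h3, h2⟩ := counts_three (G := H ⧸ center H) (by rw [hQ, hj]; norm_num)
    have : z * 5 ≤ 2 * Nat.card (ConjClasses H) :=
      (Nat.mul_le_mul_left z (by omega)).trans hlow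
    rw [hj] at hcard
    omega
  · left
    obtain ⟨h3, h2⟩ := counts_three (G := H ⧸ center H) (by rw [hQ, hj]; norm_num)
    have h5 := counts_twentyfour (G := H ⧸ center H) (by rw [hQ, hj])
    have : z * 7 ≤ 2 * Nat.card (ConjClasses H) :=
      (Nat.mul_le_mul_left z (by omega)).trans hlow
    rw [hj] at hcard
    have hp7 : p = 5 ∨ p = 7 ∨ 11 ≤ p := by
      by_contra h
      obtain h6 | h8 | h9 | h10 : p = 6 ∨ p = 8 ∨ p = 9 ∨ p = 10 := by omega
      all_goals subst p
      all_goals norm_num at hp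
    rcases hp7 with rfl | rfl | hp11
    · -- `z = 1` would make the involution central
      suffices 2 ≤ z by omega
      by_contra hz2
      haveI : Fact (Nat.Prime 2) := ⟨Nat.prime_two⟩
      have hreg : Nat.card H = 5 ^ 2 - 1 := by omega
      obtain ⟨t, ht2⟩ := exists_prime_orderOf_dvd_card' (G := H) 2 (by rw [hreg]; norm_num)
      have ht1 : t ≠ 1 := fun h => by rw [h, orderOf_one] at ht2; omega
      have htc := invol_mem_center ht hreg (by rw [← pow_two, ← ht2, pow_orderOf_eq_one]) ht1
      have h6 := orderOf_dvd_natCard (center H) htc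
      rw [ht2, ← hzdef] at h6
      have := Nat.le_of_dvd hzpos h6
      omega
    · have : 2 ∣ z := by
        rw [hcard] at hdvd
        norm_num at hdvd
        omega
      omega
    · have : 11 * p ≤ p ^ 2 := by rw [pow_two]; exact Nat.mul_le_mul_right p hp11
      omega
  · obtain ⟨h4, h3⟩ := counts_sixty (G := H ⧸ center H) (by rw [hQ, hj]; norm_num)
    have h7 : z * 7 ≤ 2 * Nat.card (ConjClasses H) :=
      (Nat.mul_le_mul_left z (by omega)).trans hlow
    rw [hj] at hcard
    by_cases hex : p = 11 ∧ z = 2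
    · obtain ⟨rfl, hz2⟩ := hex
      refine Or.inr ⟨rfl, by omega, ?_⟩
      have h120 : Nat.card H = 120 := by omega
      have hreg : Nat.card H = 11 ^ 2 - 1 := by omega
      have hns : ¬ Group.IsSolvable H := false_of_solvable h120 (hzdef ▸ hz2) hab
      obtain ⟨e⟩ := FPFStructure.equiv_sl_of_120 h120 hns
        (sylow_quaternion h120 hns fun t y h1 h2 h3 h4 => central_invol ht
          (invol_mem_center ht hreg h1 h3) (invol_mem_center ht hreg h2 h4) h1 h2 h3 h4)
      refine ⟨?_, ⟨e⟩⟩
      haveI : Fact (Nat.Prime 5) := ⟨by norm_num⟩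
      have h9 := Char2x2.sl_card_classes_odd (F := ZMod 5) (by rw [ZMod.card]; decide)
      rw [ZMod.card] at h9
      refine (Nat.card_congr ?_).trans h9
      refine Equiv.ofBijective (ConjClasses.map e.toMonoidHom)
        ⟨fun c d h => ?_, ConjClasses.map_surjective e.surjective⟩
      obtain ⟨a, rfl⟩ := ConjClasses.exists_rep c
      obtain ⟨b, rfl⟩ := ConjClasses.exists_rep d
      refine ConjClasses.mk_eq_mk_iff_isConj.mpr ?_
      simpa using e.symm.toMonoidHom.map_isConj (ConjClasses.mk_eq_mk_iff_isConj.mp h)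
    · left
      rcases Nat.lt_or_ge p 18 with hlt | hge
      · rw [hcard] at hdvd
        interval_cases p <;> first | (norm_num at hp; done) | omega
      · have : 18 * p ≤ p ^ 2 := by rw [pow_two]; exact Nat.mul_le_mul_right p hge
        omega

end Cfsg.Agent.OneClass35
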